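/-
A prime dividing the number of unordered decompositions divides the order of a transitive group.
-/
import Mathlib

set_option autoImplicit false
set_option maxHeartbeats 800000
set_option linter.unusedSectionVars false
set_option linter.style.haveILetI false

namespace CfsgLib.Geo.ImprimPrime

open Module
open scoped Pointwise

theorem dvd_card_group {F V G : Type*} [Field F] [AddCommGroup V] [Module F V] [Group G] [Finite G]
    [DistribMulAction G V] [SMulCommClass G F V] {t r : ℕ} (P : (Fin t → Submodule F V) → Prop)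
    [Finite {D // P D}] (hperm : ∀ D (σ : Equiv.Perm (Fin t)), P D → P (D ∘ σ))
    (hinj : ∀ D, P D → Function.Injective D) (hne : ∃ D, P D) (hmove : ∀ D (g : G), P D → P (g • D))
    (htrans : ∀ D D', P D → P D' → ∃ g : G, g • D = D')
    (h : r ∣ Nat.card {D // P D} / t.factorial) : r ∣ Nat.card G := by
  letI : MulAction (Equiv.Perm (Fin t)) {D // P D} :=
    { smul := fun σ D => ⟨D.1 ∘ (σ⁻¹ : Equiv.Perm (Fin t)), hperm _ _ D.2⟩
      one_smul := fun D => Subtype.ext (funext fun i => by
        show D.1 ((1 : Equiv.Perm (Fin t))⁻¹ i) = D.1 i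
        rw [inv_one]; rfl)
      mul_smul := fun σ τ D => Subtype.ext (funext fun i => by
        show D.1 ((σ * τ)⁻¹ i) = D.1 (τ⁻¹ (σ⁻¹ i))
        rw [mul_inv_rev]; rfl) }
  have hfree : ∀ D : {D // P D}, MulAction.stabilizer (Equiv.Perm (Fin t)) D = ⊥ := fun D => by
    refine (Subgroup.eq_bot_iff_forall _).2 fun σ hσ => inv_eq_one.1 (Equiv.ext fun i => ?_)
    exact hinj D.1 D.2 (congrFun (congrArg Subtype.val (MulAction.mem_stabilizer_iff.1 hσ)) i)
  have h1 := Nat.card_congr (MulAction.selfEquivOrbitsQuotientProd hfree)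
  rw [Nat.card_prod, Nat.card_perm, Nat.card_fin] at h1
  obtain ⟨D₀, hD₀⟩ := hne
  have horb : MulAction.orbit G D₀ = {D | P D} := Set.ext fun D =>
    ⟨fun ⟨g, hg⟩ => hg ▸ hmove _ g hD₀, fun hD => htrans _ _ hD₀ hD⟩
  have h2 := Nat.card_congr (MulAction.orbitEquivQuotientStabilizer G D₀)
  have h3 := (MulAction.stabilizer G D₀).card_eq_card_quotient_mul_card_subgroup
  have h4 : Nat.card (MulAction.orbit G D₀) = Nat.card {D // P D} := by rw [horb]; rfl
  refine h.trans ⟨t.factorial * Nat.card (MulAction.stabilizer G D₀), ?_⟩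
  rw [h3, ← h2, h4, ← mul_assoc]
  congr 1
  exact (Nat.div_mul_cancel ⟨_, h1.trans (mul_comm _ _)⟩).symm

theorem finite_linearEquiv {F V : Type*} [Field F] [Finite F] [AddCommGroup V] [Module F V] [FiniteDimensional F V] :
    Finite (V ≃ₗ[F] V) := by
  haveI : Finite V := Module.finite_of_finite F
  exact Finite.of_injective (fun e => (e : V → V)) DFunLike.coe_injective

theorem smul_eq_map {F V : Type*} [Field F] [AddCommGroup V] [Module F V] (e : V ≃ₗ[F] V) (S : Submodule F V) :
    e • S = S.map e.toLinearMap := rfl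

/-- Equivalences of the summands give a global equivalence. -/
theorem exists_glue {F V W ι : Type*} [Field F] [AddCommGroup V] [Module F V] [AddCommGroup W] [Module F W] [Fintype ι]
    {D : ι → Submodule F V} {D' : ι → Submodule F W} (hD : iSupIndep D) (hD' : iSupIndep D') (ht : iSup D = ⊤)
    (ht' : iSup D' = ⊤) (e : ∀ i, D i ≃ₗ[F] D' i) :
    ∃ E : V ≃ₗ[F] W, ∀ i (v : D i), E v = e i v := by
  classical
  let c := LinearEquiv.ofBijective (DirectSum.coeLinearMap D)
    (DirectSum.isInternal_submodule_of_iSupIndep_of_iSup_eq_top hD ht)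
  let c' := LinearEquiv.ofBijective (DirectSum.coeLinearMap D')
    (DirectSum.isInternal_submodule_of_iSupIndep_of_iSup_eq_top hD' ht')
  refine ⟨(c.symm.trans (DFinsupp.mapRange.linearEquiv e)).trans c', fun i v => ?_⟩
  have h : c.symm (v : V) = DirectSum.lof F ι (fun i => D i) i v := by
    rw [LinearEquiv.symm_apply_eq]
    exact (DirectSum.coeLinearMap_of D i v).symm
  rw [LinearEquiv.trans_apply, LinearEquiv.trans_apply, h]
  have h2 : DFinsupp.mapRange.linearEquiv e (DirectSum.lof F ι (fun i => D i) i v) =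
      DirectSum.lof F ι (fun i => D' i) i (e i v) := by
    show DFinsupp.mapRange (fun i => e i) (fun i => map_zero (e i)) (DFinsupp.single i v) =
      DFinsupp.single (β := fun i => D' i) i (e i v)
    exact DFinsupp.mapRange_single
  rw [h2]
  exact DirectSum.coeLinearMap_of D' i (e i v)

theorem map_eq_of_glue {F V W : Type*} [Field F] [AddCommGroup V] [Module F V] [AddCommGroup W] [Module F W]
    {A : Submodule F V} {B : Submodule F W} (e : A ≃ₗ[F] B) (E : V →ₗ[F] W) (h : ∀ v : A, E v = e v) :
    A.map E = B := by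
  ext w
  constructor
  · rintro ⟨v, hv, rfl⟩
    rw [show E v = e ⟨v, hv⟩ from h ⟨v, hv⟩]
    exact (e _).2
  · intro hw
    exact ⟨_, (e.symm ⟨w, hw⟩).2, by rw [h, e.apply_symm_apply]⟩

end CfsgLib.Geo.ImprimPrime
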