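/-
Decompositions into equal summands permuted by a map: constructions.
-/
import Mathlib
import Cfsg.Prelude.Def_GeometricClasses
import Cfsg.Agent.Lib.Geo.PrimeOrderConstruct

set_option autoImplicit false
set_option maxHeartbeats 800000
set_option linter.unusedSectionVars false
set_option linter.style.haveILetI false

namespace CfsgLib.Geo.ImprimPrime

open Module Polynomial CfsgLib.Geo.PrimeAct

variable {F : Type*} [Field F] {V : Type*} [AddCommGroup V] [Module F V] {f : V →ₗ[F] V}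

/-- `W` splits into `t` summands of dimension `a`, sent into one another by `f` along a permutation. -/
def Dec (f : V →ₗ[F] V) (W : Submodule F V) (a t : ℕ) : Prop :=
  ∃ (v : Fin t × Fin a → V) (σ : Equiv.Perm (Fin t)), LinearIndependent F v ∧
    Submodule.span F (Set.range v) = W ∧ ∀ p, f (v p) ∈ Submodule.span F (Set.range fun j => v (σ p.1, j))

theorem Dec.finrank_eq {W : Submodule F V} {a t : ℕ} (h : Dec f W a t) : finrank F W = t * a := by
  obtain ⟨v, σ, hv, rfl, -⟩ := h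
  rw [finrank_span_eq_card hv, Fintype.card_prod, Fintype.card_fin, Fintype.card_fin]

theorem dec_bot (f : V →ₗ[F] V) (a : ℕ) : Dec f ⊥ a 0 :=
  ⟨fun p => p.1.elim0, 1, linearIndependent_empty_type, by simp [Set.range_eq_empty], fun p => p.1.elim0⟩

theorem Dec.glue {A B : Submodule F V} {a t₁ t₂ : ℕ} (hA : Dec f A a t₁) (hB : Dec f B a t₂) (hAB : Disjoint A B) :
    Dec f (A ⊔ B) a (t₁ + t₂) := by
  obtain ⟨v₁, σ₁, hv₁, rfl, h₁⟩ := hA
  obtain ⟨v₂, σ₂, hv₂, rfl, h₂⟩ := hB
  let e : Fin (t₁ + t₂) × Fin a ≃ (Fin t₁ × Fin a) ⊕ (Fin t₂ × Fin a) :=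
    (finSumFinEquiv.symm.prodCongr (Equiv.refl _)).trans (Equiv.sumProdDistrib _ _ _)
  refine ⟨Sum.elim v₁ v₂ ∘ e, finSumFinEquiv.permCongr (σ₁.sumCongr σ₂), (hv₁.sum_type hv₂ hAB).comp _ e.injective,
    by rw [e.surjective.range_comp, Set.Sum.elim_range, Submodule.span_union], ?_⟩
  intro p
  have he : ∀ (s : Fin t₁ ⊕ Fin t₂) (j : Fin a), e (finSumFinEquiv s, j) = s.map (·, j) (·, j) := fun s j => by
    rcases s with s | s <;>
      simp only [e, Equiv.trans_apply, Equiv.prodCongr_apply, Prod.map, Equiv.symm_apply_apply, Equiv.refl_apply,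
        Equiv.sumProdDistrib_apply_left, Equiv.sumProdDistrib_apply_right, Sum.map_inl, Sum.map_inr]
  obtain ⟨i, j⟩ := p
  obtain ⟨s, rfl⟩ := finSumFinEquiv.surjective i
  rw [Equiv.permCongr_apply, Equiv.symm_apply_apply]
  simp only [Function.comp_apply, he]
  rcases s with s | s
  · exact h₁ (s, j)
  · exact h₂ (s, j)

/-- An invariant subspace is a decomposition with one summand. -/
theorem dec_one [FiniteDimensional F V] {W : Submodule F V} (hW : ∀ v ∈ W, f v ∈ W) {a : ℕ} (hWd : finrank F W = a) :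
    Dec f W a 1 := by
  let b := Module.finBasisOfFinrankEq F W hWd
  have hsp : Submodule.span F (Set.range fun j => (b j : V)) = W := by
    rw [show (fun j => (b j : V)) = W.subtype ∘ b from rfl, Set.range_comp, Submodule.span_image, b.span_eq,
      Submodule.map_top, Submodule.range_subtype]
  refine ⟨fun p => (b p.2 : V), 1,
    (b.linearIndependent.map' W.subtype (Submodule.ker_subtype _)).comp Prod.snd
      (fun x y h => Prod.ext (Subsingleton.elim _ _) h), ?_, fun p => ?_⟩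
  · refine Eq.trans ?_ hsp
    congr 1
    ext x
    simp
  · show f (b p.2 : V) ∈ Submodule.span F (Set.range fun j => (b j : V))
    rw [hsp]
    exact hW _ (b p.2).2

/-- A basis permuted up to scalars, compatibly with a partition into blocks. -/
theorem dec_of_basis {ι : Type*} (b : Basis ι F V) {a t : ℕ} (φ : ι ≃ Fin t × Fin a) (σ : Equiv.Perm (Fin t))
    (π : ι → ι) (hb : ∀ i, ∃ c : F, f (b i) = c • b (π i)) (hσ : ∀ i, (φ (π i)).1 = σ (φ i).1) :
    Dec f ⊤ a t := by
  refine ⟨fun p => b (φ.symm p), σ, b.linearIndependent.comp _ φ.symm.injective, ?_, fun p => ?_⟩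
  · rw [show (fun p => b (φ.symm p)) = b ∘ φ.symm from rfl, φ.symm.surjective.range_comp, b.span_eq]
  · obtain ⟨c, hc⟩ := hb (φ.symm p)
    rw [hc]
    refine Submodule.smul_mem _ _ (Submodule.subset_span ⟨(φ (π (φ.symm p))).2, ?_⟩)
    show b (φ.symm (σ p.1, _)) = _
    have h := hσ (φ.symm p)
    rw [φ.apply_symm_apply] at h
    rw [← h, Prod.mk.eta, φ.symm_apply_apply]

/-- The submodules of a decomposition. -/
theorem Dec.exists_family [FiniteDimensional F V] (hf : Function.Injective f) {a t : ℕ} (h : Dec f ⊤ a t) :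
    ∃ D : Fin t → Submodule F V, (∀ i, finrank F (D i) = a) ∧ iSupIndep D ∧ iSup D = ⊤ ∧
      ∃ σ : Equiv.Perm (Fin t), ∀ i, (D i).map f = D (σ i) := by
  obtain ⟨v, σ, hv, htop, hmap⟩ := h
  let D : Fin t → Submodule F V := fun i => Submodule.span F (Set.range fun j => v (i, j))
  have hrank : ∀ i, finrank F (D i) = a := fun i =>
    (finrank_span_eq_card (hv.comp (fun j => (i, j)) (fun x y h => congrArg Prod.snd h))).trans (Fintype.card_fin a)
  have hset : ∀ S : Set (Fin t), ⨆ i ∈ S, D i ≤ Submodule.span F (v '' {p | p.1 ∈ S}) := fun S =>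
    iSup₂_le fun i hi => Submodule.span_mono (by rintro _ ⟨j, rfl⟩; exact ⟨(i, j), hi, rfl⟩)
  refine ⟨D, hrank, fun i => ?_, ?_, σ, fun i => ?_⟩
  · refine Disjoint.mono (Submodule.span_mono ?_) (hset {k | k ≠ i})
      (hv.disjoint_span_image (s := {p | p.1 = i}) (t := {p | p.1 ∈ {k | k ≠ i}}) ?_)
    · rintro _ ⟨j, rfl⟩
      exact ⟨(i, j), rfl, rfl⟩
    · rw [Set.disjoint_left]
      intro p hp hp'
      exact hp' hp
  · rw [eq_top_iff, ← htop, Submodule.span_le]
    rintro _ ⟨p, rfl⟩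
    exact le_iSup D p.1 (Submodule.subset_span ⟨p.2, rfl⟩)
  · refine Submodule.eq_of_le_of_finrank_eq ?_ ?_
    · rw [Submodule.map_span_le]
      rintro _ ⟨j, rfl⟩
      exact hmap (i, j)
    · rw [LinearEquiv.finrank_eq (Submodule.equivMapOfInjective f hf (D i)).symm, hrank, hrank]

variable [Finite F] [FiniteDimensional F V] {r : ℕ} [Fact r.Prime] {g : V →ₗ[F] V}

local notation "ordq" => orderOf (Nat.card F : ZMod r)

theorem exists_complement (hg : g ^ r = 1) (hrF : (r : F) ≠ 0) {W : Submodule F V} (hW : ∀ v ∈ W, g v ∈ W) :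
    ∃ C : Submodule F V, (∀ v ∈ C, g v ∈ C) ∧ IsCompl W C := by
  obtain ⟨C, hC, hc⟩ := Module.End.isSemisimple_iff.1
    (Module.End.isSemisimple_of_squarefree_aeval_eq_zero (f := g)
      (X_pow_sub_one_separable_iff.2 hrF).squarefree (by simp [hg])) W hW
  exact ⟨C, hC, hc⟩

/-- An invariant piece of prescribed dimension of a fixed-point-free invariant subspace, with a complement. -/
theorem exists_rest_piece (hg : g ^ r = 1) (hrF : (r : F) ≠ 0) {R : Submodule F V} (hR : ∀ v ∈ R, g v ∈ R)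
    (hRr : R ≤ restSp r g) {b : ℕ} (hb : b * ordq ≤ finrank F R) :
    ∃ R₁ R₂ : Submodule F V, (∀ v ∈ R₁, g v ∈ R₁) ∧ (∀ v ∈ R₂, g v ∈ R₂) ∧ R₁ ≤ R ∧ R₂ ≤ R ∧ R₁ ⊔ R₂ = R ∧
      finrank F R₁ = b * ordq ∧ finrank F R₁ + finrank F R₂ = finrank F R := by
  obtain ⟨W, hW, hWd⟩ := exists_invariant_mul (g.restrict hR) (restrict_pow_eq_one g hg hR)
    (fun v hv => Subtype.ext (free_of_le_rest hrF (hRr v.2) (congrArg Subtype.val hv))) b hb
  set R₁ := W.map R.subtype with hR₁
  have hinv : ∀ v ∈ R₁, g v ∈ R₁ := by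
    rintro _ ⟨w, hw, rfl⟩
    exact ⟨_, hW w hw, rfl⟩
  have hle : R₁ ≤ R := Submodule.map_subtype_le _ _
  obtain ⟨C, hC, hcompl⟩ := exists_complement hg hrF hinv
  have hsup : R₁ ⊔ C ⊓ R = R := by rw [← sup_inf_assoc_of_le C hle, hcompl.sup_eq_top, top_inf_eq]
  refine ⟨R₁, C ⊓ R, hinv, fun v hv => ⟨hC v hv.1, hR v hv.2⟩, hle, inf_le_right, hsup, ?_, ?_⟩
  · rw [hR₁, Submodule.finrank_map_subtype_eq, hWd]
  · have h := Submodule.finrank_sup_add_finrank_inf_eq R₁ (C ⊓ R)
    have hbot : R₁ ⊓ (C ⊓ R) = ⊥ := by rw [← inf_assoc, hcompl.inf_eq_bot, bot_inf_eq]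
    rw [hsup, hbot, finrank_bot, add_zero] at h
    exact h.symm

theorem inf_fix_rest (hrF : (r : F) ≠ 0) {R Fx : Submodule F V} (hRr : R ≤ restSp r g) (hFx : Fx ≤ fixSp g) :
    finrank F ↥(R ⊔ Fx) = finrank F R + finrank F Fx := by
  have h := Submodule.finrank_sup_add_finrank_inf_eq R Fx
  have h0 : R ⊓ Fx = ⊥ := le_bot_iff.1
    ((inf_le_inf hRr hFx).trans (by rw [inf_comm]; exact (disjoint_fix_rest hrF).le))
  rw [h0, finrank_bot, add_zero] at h
  exact h

theorem invariant_sup {A B : Submodule F V} (hA : ∀ v ∈ A, g v ∈ A) (hB : ∀ v ∈ B, g v ∈ B) :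
    ∀ v ∈ A ⊔ B, g v ∈ A ⊔ B := fun v hv => by
  obtain ⟨x, hx, y, hy, rfl⟩ := Submodule.mem_sup.1 hv
  rw [map_add]
  exact Submodule.add_mem_sup (hA x hx) (hB y hy)

theorem invariant_of_le_fix {A : Submodule F V} (hA : A ≤ fixSp g) : ∀ v ∈ A, g v ∈ A := fun v hv => by
  rw [mem_fixSp.1 (hA hv)]; exact hv

theorem exists_split_fix (S : Submodule F V) {a : ℕ} (ha : a ≤ finrank F S) :
    ∃ A B : Submodule F V, A ≤ S ∧ B ≤ S ∧ A ⊔ B = S ∧ finrank F A = a ∧ finrank F A + finrank F B = finrank F S := by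
  obtain ⟨A, hA, hAd⟩ := exists_subspace_dim S ha
  obtain ⟨C, hC⟩ := Submodule.exists_isCompl A
  have hsup : A ⊔ C ⊓ S = S := by rw [← sup_inf_assoc_of_le C hA, hC.sup_eq_top, top_inf_eq]
  refine ⟨A, C ⊓ S, hA, inf_le_right, hsup, hAd, ?_⟩
  have h := Submodule.finrank_sup_add_finrank_inf_eq A (C ⊓ S)
  have hbot : A ⊓ (C ⊓ S) = ⊥ := by rw [← inf_assoc, hC.inf_eq_bot, bot_inf_eq]
  rw [hsup, hbot, finrank_bot, add_zero] at h
  exact h.symm

theorem disjoint_of_finrank {A B : Submodule F V} (h : finrank F A + finrank F B ≤ finrank F ↥(A ⊔ B)) :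
    Disjoint A B := by
  rw [disjoint_iff, ← Submodule.finrank_eq_zero]
  have := Submodule.finrank_sup_add_finrank_inf_eq A B
  omega

/-- Summands invariant one by one, each carrying at most `A` blocks. -/
theorem dec_split (hg : g ^ r = 1) (hrF : (r : F) ≠ 0) {a A : ℕ} (hA : A * ordq ≤ a) (s : ℕ) :
    ∀ {R Fx : Submodule F V}, (∀ v ∈ R, g v ∈ R) → R ≤ restSp r g → Fx ≤ fixSp g →
      ∀ j, finrank F R = j * ordq → j ≤ s * A → finrank F R + finrank F Fx = s * a → Dec g (R ⊔ Fx) a s := by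
  induction s with
  | zero =>
    intro R Fx _ _ _ j _ _ hsum
    rw [zero_mul, Nat.add_eq_zero_iff, Submodule.finrank_eq_zero, Submodule.finrank_eq_zero] at hsum
    rw [hsum.1, hsum.2, bot_sup_eq]
    exact dec_bot g a
  | succ s ih =>
    intro R Fx hR hRr hFx j hj hjA hsum
    obtain ⟨b, hb⟩ : ∃ b, b = min A j := ⟨_, rfl⟩
    obtain ⟨R₁, R₂, h1, h2, hl1, hl2, hsupR, hd1, hdR⟩ := exists_rest_piece hg hrF hR hRr (b := b)
      (by rw [hj]; exact Nat.mul_le_mul_right _ (by omega))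
    have hfix : a - b * ordq ≤ finrank F Fx := by
      rcases Nat.lt_or_ge j A with hjA' | hjA'
      · rw [Nat.add_mul, one_mul] at hsum
        have : b * ordq = j * ordq := by rw [hb, Nat.min_eq_right hjA'.le]
        omega
      · have h3 : j * ordq ≤ s * (A * ordq) + A * ordq := by
          rw [← Nat.succ_mul, ← mul_assoc]
          exact Nat.mul_le_mul_right _ hjA
        have h4 : s * (A * ordq) ≤ s * a := Nat.mul_le_mul_left _ hA
        rw [Nat.add_mul, one_mul] at hsum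
        have : b * ordq = A * ordq := by rw [hb, Nat.min_eq_left hjA']
        omega
    have hba : b * ordq ≤ a := (Nat.mul_le_mul_right _ (by omega : b ≤ A)).trans hA
    obtain ⟨F₁, F₂, hf1, hf2, hsupF, hfd1, hfd⟩ := exists_split_fix Fx hfix
    have e1 := inf_fix_rest (g := g) hrF (hl1.trans hRr) (hf1.trans hFx)
    have e2 := inf_fix_rest (g := g) hrF (hl2.trans hRr) (hf2.trans hFx)
    have e3 := inf_fix_rest (g := g) hrF hRr hFx
    have heq : (R₁ ⊔ F₁) ⊔ (R₂ ⊔ F₂) = R ⊔ Fx := by rw [← hsupR, ← hsupF, sup_sup_sup_comm]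
    have hdec₁ : Dec g (R₁ ⊔ F₁) a 1 := dec_one (invariant_sup h1 (invariant_of_le_fix (hf1.trans hFx))) (by
      rw [e1, hd1, hfd1]; omega)
    have hdec₂ : Dec g (R₂ ⊔ F₂) a s := ih h2 (hl2.trans hRr) (hf2.trans hFx) (j - b) (by
      have h5 : finrank F R₂ = j * ordq - b * ordq := by omega
      rw [h5, Nat.sub_mul]) (by rw [Nat.add_mul, one_mul] at hjA; omega) (by
      rw [Nat.add_mul, one_mul] at hsum; omega)
    have := hdec₁.glue hdec₂ (disjoint_of_finrank (by rw [heq]; omega))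
    rwa [heq, add_comm] at this

/-- Regular blocks, one fixed vector to each irreducible piece of dimension `r - 1`. -/
theorem dec_regular (hg : g ^ r = 1) (hrF : (r : F) ≠ 0) (hc : ordq + 1 = r) (s : ℕ) :
    ∀ {R Fx : Submodule F V}, (∀ v ∈ R, g v ∈ R) → R ≤ restSp r g → Fx ≤ fixSp g →
      finrank F R = s * ordq → s ≤ finrank F Fx → Dec g (R ⊔ Fx) 1 (finrank F R + finrank F Fx) := by
  induction s with
  | zero =>
    intro R Fx hR hRr hFx hRd _
    exact dec_split (a := 1) (A := 0) hg hrF (by omega) _ hR hRr hFx 0 hRd (Nat.zero_le _) (mul_one _).symm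
  | succ s ih =>
    intro R Fx hR hRr hFx hRd hs
    obtain ⟨R₁, R₂, h1, h2, hl1, hl2, hsupR, hd1, hdR⟩ := exists_rest_piece hg hrF hR hRr (b := 1)
      (by rw [hRd]; exact Nat.mul_le_mul_right _ (by omega))
    obtain ⟨F₁, F₂, hf1, hf2, hsupF, hfd1, hfd⟩ := exists_split_fix Fx (a := 1) (by omega)
    have e1 := inf_fix_rest (g := g) hrF (hl1.trans hRr) (hf1.trans hFx)
    have e2 := inf_fix_rest (g := g) hrF (hl2.trans hRr) (hf2.trans hFx)
    have e3 := inf_fix_rest (g := g) hrF hRr hFx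
    have heq : (R₁ ⊔ F₁) ⊔ (R₂ ⊔ F₂) = R ⊔ Fx := by rw [← hsupR, ← hsupF, sup_sup_sup_comm]
    have hr1 : 1 < r := (Fact.out : r.Prime).one_lt
    obtain ⟨b, hbR, hb0⟩ := Submodule.exists_mem_ne_zero_of_ne_bot
      (show R₁ ≠ ⊥ from fun h => by rw [h, finrank_bot] at hd1; omega)
    obtain ⟨φ, hφF, hφ0⟩ := Submodule.exists_mem_ne_zero_of_ne_bot
      (show F₁ ≠ ⊥ from fun h => by rw [h, finrank_bot] at hfd1; omega)
    have hφfix : g φ = φ := mem_fixSp.1 (hFx (hf1 hφF))
    have hF1 : F₁ = Submodule.span F {φ} := (Submodule.eq_of_le_of_finrank_eq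
      ((Submodule.span_singleton_le_iff_mem _ _).2 hφF) (by rw [hfd1, finrank_span_singleton hφ0])).symm
    set w : Fin r → V := fun i => (g ^ (i : ℕ)) (b + φ) with hw
    set S := Submodule.span F (Set.range w) with hS
    have hnext : ∀ i : Fin r, ∃ i' : Fin r, g (w i) = w i' ∧
        (i' : ℕ) = ((i : ℕ) + 1) % r := fun i => by
      refine ⟨⟨((i : ℕ) + 1) % r, Nat.mod_lt _ (by omega)⟩, ?_, rfl⟩
      show g ((g ^ (i : ℕ)) (b + φ)) = (g ^ (((i : ℕ) + 1) % r)) (b + φ)
      rw [← Module.End.mul_apply, ← pow_succ']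
      conv_lhs => rw [← Nat.mod_add_div ((i : ℕ) + 1) r, pow_add, pow_mul, hg, one_pow, mul_one]
    have hSg : ∀ v ∈ S, g v ∈ S := by
      show S ≤ S.comap g
      rw [hS, Submodule.span_le]
      rintro _ ⟨i, rfl⟩
      obtain ⟨i', hi', -⟩ := hnext i
      show g (w i) ∈ Submodule.span F (Set.range w)
      rw [hi']
      exact Submodule.subset_span ⟨i', rfl⟩
    have hsupS : S = R₁ ⊔ F₁ := by
      refine le_antisymm ?_ ?_
      · rw [hS, Submodule.span_le]
        rintro _ ⟨i, rfl⟩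
        have hk : ∀ k : ℕ, (g ^ k) (b + φ) ∈ R₁ ⊔ F₁ := fun k => by
          induction k with
          | zero => exact Submodule.add_mem_sup hbR hφF
          | succ k ih => rw [pow_succ', Module.End.mul_apply]
                         exact invariant_sup h1 (invariant_of_le_fix (hf1.trans hFx)) _ ih
        exact hk i
      · have hφS : φ ∈ S := by
          have hsum : orbitSum r g (b + φ) ∈ S := by
            rw [orbitSum, LinearMap.sum_apply]
            exact S.sum_mem fun k hk => Submodule.subset_span ⟨⟨k, Finset.mem_range.1 hk⟩, rfl⟩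
          have hb' : orbitSum r g b = 0 := hRr (hl1 hbR)
          rw [map_add, hb', zero_add, orbitSum_fixed hφfix] at hsum
          exact (S.smul_mem_iff hrF).1 hsum
        have hbS : b ∈ S := by
          have h0 : b + φ ∈ S := Submodule.subset_span ⟨⟨0, by omega⟩, by simp [hw]⟩
          simpa using S.sub_mem h0 hφS
        refine sup_le ?_ (hF1 ▸ (Submodule.span_singleton_le_iff_mem _ _).2 hφS)
        have hT : ∀ v ∈ R₁ ⊓ S, g v ∈ R₁ ⊓ S := fun v hv => ⟨h1 v hv.1, hSg v hv.2⟩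
        have hdvd := orderOf_dvd_finrank_inf_rest hg hrF (R₁ ⊓ S) hT
        rw [inf_eq_left.2 ((inf_le_left : R₁ ⊓ S ≤ R₁).trans (hl1.trans hRr))] at hdvd
        have hpos : 0 < finrank F ↥(R₁ ⊓ S) := Nat.pos_of_ne_zero fun h0 =>
          hb0 ((Submodule.mem_bot F).1 (Submodule.finrank_eq_zero.1 h0 ▸ ⟨hbR, hbS⟩))
        have hle : finrank F ↥(R₁ ⊓ S) ≤ finrank F R₁ := Submodule.finrank_mono inf_le_left
        have := Nat.le_of_dvd hpos hdvd
        exact inf_eq_left.1 (Submodule.eq_of_le_of_finrank_eq inf_le_left (by omega))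
    have hcardS : finrank F S = r := by
      rw [congrArg (fun W : Submodule F V => finrank F W) hsupS, e1, hd1, hfd1]
      omega
    have hli : LinearIndependent F w := by
      rw [linearIndependent_iff_card_eq_finrank_span, Fintype.card_fin, Set.finrank, ← hS, hcardS]
    choose nxt hnxt hnxtv using hnext
    have hinj : Function.Injective nxt := fun i i' hii => by
      have h := congrArg Fin.val hii
      rw [hnxtv, hnxtv] at h
      have := i.isLt
      have := i'.isLt
      exact Fin.ext ((Nat.ModEq.add_right_cancel' 1 (show (i : ℕ) + 1 ≡ (i' : ℕ) + 1 [MOD r] from h)).eq_of_lt_of_lt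
        i.isLt i'.isLt)
    have hdec₁ : Dec g (R₁ ⊔ F₁) 1 r :=
      ⟨fun p => w p.1, Equiv.ofBijective nxt hinj.bijective_of_finite,
        hli.comp _ (fun x y h => Prod.ext h (Subsingleton.elim _ _)),
        by rw [← hsupS, hS]; congr 1; ext x; simp,
        fun p => Submodule.subset_span ⟨0, (hnxt p.1).symm⟩⟩
    have hdec₂ : Dec g (R₂ ⊔ F₂) 1 (finrank F R₂ + finrank F F₂) := ih h2 (hl2.trans hRr) (hf2.trans hFx)
      (by rw [Nat.add_mul, one_mul] at hRd; omega) (by omega)
    have := hdec₁.glue hdec₂ (disjoint_of_finrank (by rw [heq]; omega))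
    rwa [heq, show r + (finrank F R₂ + finrank F F₂) = finrank F R + finrank F Fx by omega] at this

omit [Finite F] in
/-- A map whose `r`-th power is a scalar that is no `r`-th power permutes the vectors of a basis cyclically. -/
theorem exists_cyclic_basis (x : V →ₗ[F] V) (c : F) (hc : ∀ d, d ^ r ≠ c) (hx : x ^ r = c • (1 : V →ₗ[F] V)) :
    ∃ (m : ℕ) (b : Basis (Fin m × Fin r) F V), ∀ p : Fin m × Fin r, ∃ e : F, x (b p) = e • b (p.1, finRotate r p.2) := by
  classical
  have hrp : r.Prime := Fact.out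
  let P : F[X] := X ^ r - C c
  have hP : Irreducible P := X_pow_sub_C_irreducible_of_prime hrp hc
  haveI := Fact.mk hP
  have hP0 : aeval x P = 0 := by simp [P, hx, Algebra.algebraMap_eq_smul_one]
  let φ : AdjoinRoot P →+* Module.End F V :=
    Ideal.Quotient.lift (Ideal.span {P}) (aeval x).toRingHom fun p hp => by
      obtain ⟨k, rfl⟩ := Ideal.mem_span_singleton.1 hp
      show aeval x (P * k) = 0
      rw [map_mul, hP0, zero_mul]
  have hφ : ∀ p, φ (AdjoinRoot.mk P p) = aeval x p := fun p => rfl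
  letI : Module (AdjoinRoot P) V := Module.compHom V φ
  haveI : IsScalarTower F (AdjoinRoot P) V := IsScalarTower.of_algebraMap_smul fun a v => by
    show φ (algebraMap F (AdjoinRoot P) a) v = a • v
    rw [AdjoinRoot.algebraMap_eq, ← AdjoinRoot.mk_C, hφ, aeval_C]
    rfl
  haveI : Module.Finite (AdjoinRoot P) V := Module.Finite.of_restrictScalars_finite F (AdjoinRoot P) V
  let pb := AdjoinRoot.powerBasis hP.ne_zero
  have hdim : pb.dim = r := (AdjoinRoot.powerBasis_dim hP.ne_zero).trans natDegree_X_pow_sub_C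
  let bK := Module.finBasis (AdjoinRoot P) V
  let b := (pb.basis.smulTower bK).reindex ((Equiv.prodComm _ _).trans ((Equiv.refl _).prodCongr (finCongr hdim)))
  have hxv : ∀ v, x v = AdjoinRoot.root P • v := fun v => by
    show x v = φ (AdjoinRoot.root P) v
    rw [← AdjoinRoot.mk_X, hφ, aeval_X]
  have hb : ∀ j i, b (j, i) = AdjoinRoot.root P ^ (i : ℕ) • bK j := fun j i => by
    simp [b, pb, Basis.smulTower_apply, PowerBasis.coe_basis, AdjoinRoot.powerBasis_gen]
  refine ⟨_, b, ?_⟩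
  rintro ⟨j, i⟩
  obtain ⟨n, rfl⟩ : ∃ n, r = n + 1 := ⟨r - 1, by have := hrp.two_le; omega⟩
  rw [hxv, hb, hb, smul_smul, ← pow_succ', finRotate_apply, Fin.val_add_one]
  split_ifs with hl
  · refine ⟨c, ?_⟩
    have hroot : AdjoinRoot.root P ^ (n + 1) = algebraMap F (AdjoinRoot P) c := by
      have h0 := AdjoinRoot.mk_self (f := P)
      rw [show AdjoinRoot.mk P P = AdjoinRoot.mk P (X ^ (n + 1) - C c) from rfl, map_sub, map_pow, AdjoinRoot.mk_X,
        AdjoinRoot.mk_C, sub_eq_zero] at h0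
      rw [h0, AdjoinRoot.algebraMap_eq]
    obtain rfl : i = Fin.last n := hl
    rw [Fin.val_last, hroot, pow_zero, one_smul, algebraMap_smul]
  · exact ⟨1, (one_smul _ _).symm⟩

omit [Finite F] in
/-- The summands in that case. -/
theorem dec_nonpower (x : V →ₗ[F] V) (c : F) (hc : ∀ d, d ^ r ≠ c) (hx : x ^ r = c • (1 : V →ₗ[F] V)) {a t : ℕ}
    (hn : finrank F V = a * t) (ha : 0 < a) (ht : 0 < t) : Dec x ⊤ a t := by
  obtain ⟨m, b, hb⟩ := exists_cyclic_basis x c hc hx
  have hm : m * r = a * t := by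
    rw [← hn, finrank_eq_card_basis b, Fintype.card_prod, Fintype.card_fin, Fintype.card_fin]
  have hrp : r.Prime := Fact.out
  rcases hrp.dvd_mul.1 (Dvd.intro_left m hm) with h | h
  · obtain ⟨a', rfl⟩ := h
    obtain rfl : m = t * a' := Nat.eq_of_mul_eq_mul_right hrp.pos (by rw [hm]; ring)
    refine dec_of_basis b (((finProdFinEquiv.symm.prodCongr (Equiv.refl (Fin r))).trans (Equiv.prodAssoc _ _ _)).trans
      ((Equiv.refl (Fin t)).prodCongr ((Equiv.prodComm _ _).trans finProdFinEquiv))) 1 _ hb fun i => rfl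
  · obtain ⟨t', rfl⟩ := h
    obtain rfl : m = t' * a := Nat.eq_of_mul_eq_mul_right hrp.pos (by rw [hm]; ring)
    let φ : Fin (t' * a) × Fin r ≃ Fin (r * t') × Fin a :=
      (((finProdFinEquiv.symm.prodCongr (Equiv.refl (Fin r))).trans (Equiv.prodAssoc _ _ _)).trans
        (((Equiv.refl (Fin t')).prodCongr (Equiv.prodComm (Fin a) (Fin r))).trans
          (Equiv.prodAssoc (Fin t') (Fin r) (Fin a)).symm)).trans
        (((Equiv.prodComm (Fin t') (Fin r)).trans finProdFinEquiv).prodCongr (Equiv.refl (Fin a)))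
    refine dec_of_basis b φ (finProdFinEquiv.permCongr ((finRotate r).prodCongr (Equiv.refl (Fin t')))) _ hb fun i => ?_
    simp [φ, Equiv.permCongr_apply]

end CfsgLib.Geo.ImprimPrime
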