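/-
Decompositions permuted by a map of prime order: necessary conditions.
-/
import Mathlib
import Cfsg.Agent.Lib.Geo.PrimeOrderAction

set_option autoImplicit false
set_option maxHeartbeats 800000
set_option linter.unusedSectionVars false
set_option linter.style.haveILetI false

namespace CfsgLib.Geo.ImprimPrime

open Module CfsgLib.Geo.PrimeAct

variable {F : Type*} [Field F] [Finite F] {V : Type*} [AddCommGroup V] [Module F V] [FiniteDimensional F V]
variable {r : ℕ} [Fact r.Prime] {g : V →ₗ[F] V} {t : ℕ} {D : Fin t → Submodule F V} {σ : Equiv.Perm (Fin t)}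

theorem pow_mem_summand (hσ : ∀ i, (D i).map g = D (σ i)) (i : Fin t) {v : V} (hv : v ∈ D i) :
    ∀ k : ℕ, (g ^ k) v ∈ D ((σ ^ k) i) := fun k => by
  induction k with
  | zero => exact hv
  | succ k ih =>
    rw [pow_succ' σ, Equiv.Perm.mul_apply, ← hσ, pow_succ' g, Module.End.mul_apply]
    exact Submodule.mem_map_of_mem ih

theorem perm_pow_eq_one (hg : g ^ r = 1) (hind : iSupIndep D) (hpos : ∀ i, D i ≠ ⊥) (hσ : ∀ i, (D i).map g = D (σ i)) :
    σ ^ r = 1 := by
  refine Equiv.ext fun i => hind.injective hpos ?_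
  obtain ⟨v, hv, hv0⟩ := Submodule.exists_mem_ne_zero_of_ne_bot (hpos i)
  have h := pow_mem_summand hσ i hv r
  rw [hg] at h
  by_contra hne
  have hne' : (σ ^ r) i ≠ i := fun h => hne (by rw [h]; rfl)
  exact hv0 (Submodule.disjoint_def.1 (hind.pairwiseDisjoint hne') v h hv)

/-- The first `r` images of a moved summand are different. -/
theorem orbit_injective (hg : g ^ r = 1) (hind : iSupIndep D) (hpos : ∀ i, D i ≠ ⊥) (hσ : ∀ i, (D i).map g = D (σ i))
    {i : Fin t} (hi : σ i ≠ i) : Function.Injective fun k : Fin r => (σ ^ (k : ℕ)) i := by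
  have hper : Function.IsPeriodicPt σ r i := by
    show σ^[r] i = i
    rw [← Equiv.Perm.coe_pow, perm_pow_eq_one hg hind hpos hσ]
    rfl
  have hmin : Function.minimalPeriod σ i = r := by
    rcases (Nat.dvd_prime (Fact.out : r.Prime)).1 hper.minimalPeriod_dvd with h | h
    · exact absurd (Function.minimalPeriod_eq_one_iff_isFixedPt.1 h) hi
    · exact h
  intro k l hkl
  have h := (Function.iterate_eq_iterate_iff_of_lt_minimalPeriod (f := σ) (x := i)
    (m := (k : ℕ)) (n := (l : ℕ)) (by rw [hmin]; exact k.2) (by rw [hmin]; exact l.2)).1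
    (by simpa [← Equiv.Perm.coe_pow] using hkl)
  exact Fin.ext h

/-- A relation among the images of a moved summand is trivial. -/
theorem orbit_independent (hg : g ^ r = 1) (hind : iSupIndep D) (hpos : ∀ i, D i ≠ ⊥) (hσ : ∀ i, (D i).map g = D (σ i))
    {i : Fin t} (hi : σ i ≠ i) (u : Fin r → V) (hu : ∀ k, u k ∈ D i) (h0 : ∑ k : Fin r, (g ^ (k : ℕ)) (u k) = 0) :
    ∀ k, u k = 0 := by
  have hind' := hind.comp (orbit_injective hg hind hpos hσ hi)
  intro k
  have h := (iSupIndep_iff_finsetSum_eq_zero_imp_eq_zero _).1 hind' Finset.univ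
    (fun k => (g ^ (k : ℕ)) (u k)) (fun k _ => pow_mem_summand hσ i (hu k) k) h0 k (Finset.mem_univ k)
  have h1 := congrArg (g ^ (r - (k : ℕ))) h
  rw [map_zero, ← Module.End.mul_apply, ← pow_add, Nat.sub_add_cancel k.2.le, hg] at h1
  exact h1

theorem orbitSum_eq_fin (v : V) : orbitSum r g v = ∑ k : Fin r, (g ^ (k : ℕ)) v := by
  rw [orbitSum, LinearMap.sum_apply, Finset.sum_range]

/-- A moved summand needs room in the fixed space and in its complement. -/
theorem moved_bounds (hg : g ^ r = 1) (hrF : (r : F) ≠ 0) (hind : iSupIndep D) (hpos : ∀ i, D i ≠ ⊥)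
    (hσ : ∀ i, (D i).map g = D (σ i)) {i : Fin t} (hi : σ i ≠ i) :
    finrank F (D i) ≤ finrank F (fixSp g) ∧ (r - 1) * finrank F (D i) ≤ finrank F (restSp r g) := by
  have hr2 := (Fact.out : r.Prime).two_le
  constructor
  · let φ : D i →ₗ[F] fixSp g :=
      ((orbitSum r g).comp (D i).subtype).codRestrict _ fun v => mem_fixSp.2 (apply_orbitSum hg _)
    refine LinearMap.finrank_le_finrank_of_injective (f := φ) ((injective_iff_map_eq_zero _).2 fun v hv => ?_)
    have h0 : orbitSum r g (v : V) = 0 := congrArg Subtype.val hv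
    rw [orbitSum_eq_fin] at h0
    exact Subtype.ext (orbit_independent hg hind hpos hσ hi (fun _ => (v : V)) (fun _ => v.2) h0 ⟨0, by omega⟩)
  · let ψ : (Fin (r - 1) → D i) →ₗ[F] restSp r g :=
      (∑ k : Fin (r - 1), ((g - 1) * g ^ (k : ℕ)).comp ((D i).subtype.comp (LinearMap.proj k))).codRestrict _
        fun v => by
          show orbitSum r g _ = 0
          rw [LinearMap.sum_apply, map_sum]
          refine Finset.sum_eq_zero fun k _ => ?_
          simp [orbitSum_apply hg]
    have h := LinearMap.finrank_le_finrank_of_injective (f := ψ) ((injective_iff_map_eq_zero _).2 fun v hv => ?_)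
    · rwa [Module.finrank_pi_fintype, Finset.sum_const, Finset.card_univ, Fintype.card_fin, smul_eq_mul] at h
    set w := ∑ k : Fin (r - 1), (g ^ (k : ℕ)) (v k : V) with hw
    have h0 : g w = w := by
      have := congrArg Subtype.val hv
      simp only [ψ, LinearMap.codRestrict_apply, LinearMap.sum_apply, LinearMap.comp_apply, Module.End.mul_apply,
        LinearMap.sub_apply, Module.End.one_apply, Finset.sum_sub_distrib, ← map_sum, ZeroMemClass.coe_zero] at this
      exact sub_eq_zero.1 this
    set u := ∑ k : Fin (r - 1), (v k : V) with hu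
    have hsum : (r : F) • w = ∑ j : Fin r, (g ^ (j : ℕ)) u := by
      rw [← orbitSum_fixed h0, hw, hu, map_sum, ← orbitSum_eq_fin, map_sum]
      refine Finset.sum_congr rfl fun k _ => ?_
      have hk : ∀ (m : ℕ) (x : V), orbitSum r g ((g ^ m) x) = orbitSum r g x := fun m => by
        induction m with
        | zero => exact fun _ => rfl
        | succ m ih => intro x; rw [pow_succ', Module.End.mul_apply, orbitSum_apply hg, ih]
      exact hk k _
    let x : Fin r → V := fun j => (if hj : (j : ℕ) < r - 1 then (r : F) • (v ⟨j, hj⟩ : V) else 0) - u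
    have hx : ∀ j, x j ∈ D i := fun j => by
      refine (D i).sub_mem ?_ ((D i).sum_mem fun k _ => (v k).2)
      split_ifs
      · exact (D i).smul_mem _ (v _).2
      · exact (D i).zero_mem
    have hz := orbit_independent hg hind hpos hσ hi x hx (by
      simp only [x, map_sub, Finset.sum_sub_distrib, ← hsum, sub_eq_zero]
      obtain ⟨m, hm⟩ : ∃ m, r = m + 1 := ⟨r - 1, by omega⟩
      subst hm
      rw [Fin.sum_univ_castSucc, dif_neg (by simp), map_zero, add_zero, hw, Finset.smul_sum]
      refine Finset.sum_congr rfl fun k _ => ?_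
      rw [dif_pos (by simp), map_smul]
      rfl)
    have hu0 : u = 0 := by
      have := hz ⟨r - 1, by omega⟩
      simpa [x] using this
    funext k
    have := hz ⟨k, by have := k.2; omega⟩
    simp only [x, k.2, dite_true, hu0, sub_zero] at this
    exact Subtype.ext ((smul_eq_zero.1 this).resolve_left hrF)

/-- Summands invariant one by one: both spaces split along the summands. -/
theorem fixed_sums (hg : g ^ r = 1) (hrF : (r : F) ≠ 0) (hind : iSupIndep D) (htop : iSup D = ⊤)
    (hσ : ∀ i, (D i).map g = D i) :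
    ∑ i, finrank F ↥(D i ⊓ fixSp g) = finrank F (fixSp g) ∧
      ∑ i, finrank F ↥(D i ⊓ restSp r g) = finrank F (restSp r g) := by
  have hinv : ∀ i, ∀ v ∈ D i, g v ∈ D i := fun i v hv => (hσ i) ▸ Submodule.mem_map_of_mem hv
  have hsum : ∀ (P : Submodule F V), iSupIndep fun i => D i ⊓ P := fun P => hind.mono fun i => inf_le_left
  have hle : ∀ (P : Submodule F V), ∑ i, finrank F ↥(D i ⊓ P) ≤ finrank F P := fun P => by
    classical
    have h := LinearMap.finrank_range_of_inj (f := DirectSum.coeLinearMap fun i => D i ⊓ P)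
      (hsum P).dfinsupp_lsum_injective
    rw [Module.finrank_directSum] at h
    rw [← h, DirectSum.range_coeLinearMap]
    exact Submodule.finrank_mono (iSup_le fun i => inf_le_right)
  have hn : ∑ i, finrank F (D i) = finrank F V := by
    classical
    have := (LinearEquiv.ofBijective (DirectSum.coeLinearMap D)
      (DirectSum.isInternal_submodule_of_iSupIndep_of_iSup_eq_top hind htop)).finrank_eq
    rwa [Module.finrank_directSum] at this
  have h1 := hle (fixSp g)
  have h2 := hle (restSp r g)
  have h3 : ∑ i, (finrank F ↥(D i ⊓ fixSp g) + finrank F ↥(D i ⊓ restSp r g)) = finrank F V := by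
    rw [← hn]
    exact Finset.sum_congr rfl fun i _ => finrank_split hg hrF (D i) (hinv i)
  have h4 := finrank_split hg hrF ⊤ fun v _ => Submodule.mem_top
  rw [top_inf_eq, top_inf_eq, finrank_top] at h4
  rw [Finset.sum_add_distrib] at h3
  exact ⟨by omega, by omega⟩

/-- Summands invariant one by one. -/
theorem fixed_bounds (hg : g ^ r = 1) (hrF : (r : F) ≠ 0) (hind : iSupIndep D) (htop : iSup D = ⊤)
    (hσ : ∀ i, (D i).map g = D i) :
    ∃ φ : Fin t → ℕ, ∃ ρ : Fin t → ℕ, (∀ i, φ i + ρ i * orderOf (Nat.card F : ZMod r) = finrank F (D i)) ∧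
      ∑ i, φ i = finrank F (fixSp g) ∧ ∑ i, ρ i * orderOf (Nat.card F : ZMod r) = finrank F (restSp r g) := by
  have hinv : ∀ i, ∀ v ∈ D i, g v ∈ D i := fun i v hv => (hσ i) ▸ Submodule.mem_map_of_mem hv
  choose ρ hρ using fun i => orderOf_dvd_finrank_inf_rest hg hrF (D i) (hinv i)
  obtain ⟨h1, h2⟩ := fixed_sums hg hrF hind htop hσ
  refine ⟨fun i => finrank F ↥(D i ⊓ fixSp g), ρ, fun i => ?_, h1, ?_⟩
  · rw [← finrank_split hg hrF (D i) (hinv i), hρ i, mul_comm]
  · rw [← h2]
    exact Finset.sum_congr rfl fun i _ => by rw [hρ i, mul_comm]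

/-- Lines: each orbit meets the fixed space. -/
theorem lines_bound (hg : g ^ r = 1) (hrF : (r : F) ≠ 0) (hone : ∀ ζ : F, ζ ^ r = 1 → ζ = 1)
    (hrank : ∀ i, finrank F (D i) = 1) (hind : iSupIndep D) (htop : iSup D = ⊤)
    (hσ : ∀ i, (D i).map g = D (σ i)) : t ≤ r * finrank F (fixSp g) := by
  classical
  have hr0 := (Fact.out : r.Prime).pos
  have hpos : ∀ i, D i ≠ ⊥ := fun i h => by have := hrank i; rw [h, finrank_bot] at this; omega
  choose v hv hv0 using fun i => Submodule.exists_mem_ne_zero_of_ne_bot (hpos i)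
  let orb : Fin t → Finset (Fin t) := fun i => (Finset.range r).image fun k => (σ ^ k) i
  have hσr := perm_pow_eq_one hg hind hpos hσ
  have horb : ∀ i j, j ∈ orb i → orb j = orb i := by
    intro i j hj
    simp only [orb, Finset.mem_image, Finset.mem_range] at hj
    obtain ⟨k, hk, rfl⟩ := hj
    ext l
    simp only [orb, Finset.mem_image, Finset.mem_range]
    constructor
    · rintro ⟨m, -, rfl⟩
      refine ⟨(m + k) % r, Nat.mod_lt _ hr0, ?_⟩
      rw [← Equiv.Perm.mul_apply, ← pow_add]
      conv_rhs => rw [← Nat.mod_add_div (m + k) r, pow_add, pow_mul, hσr, one_pow, mul_one]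
    · rintro ⟨m, hm, rfl⟩
      refine ⟨(m + (r - k)) % r, Nat.mod_lt _ hr0, ?_⟩
      have h : σ ^ ((m + (r - k)) % r + k) = σ ^ m := by
        conv_lhs => rw [pow_eq_pow_mod _ hσr, Nat.mod_add_mod, add_assoc, Nat.sub_add_cancel hk.le, Nat.add_mod_right]
        exact (pow_eq_pow_mod _ hσr).symm
      rw [← Equiv.Perm.mul_apply, ← pow_add, h]
  have hO : ∀ i, orbitSum r g (v i) ≠ 0 := by
    intro i h0
    by_cases hi : σ i = i
    · have h1 : g (v i) ∈ D i := by
        have := pow_mem_summand hσ i (hv i) 1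
        rwa [pow_one, pow_one, hi] at this
      obtain ⟨ζ, hζ⟩ := exists_smul_eq_of_finrank_eq_one (hrank i) (x := ⟨v i, hv i⟩)
        (fun h => hv0 i (congrArg Subtype.val h)) ⟨_, h1⟩
      have hζ' : g (v i) = ζ • v i := (congrArg Subtype.val hζ).symm
      have hpow : ∀ k : ℕ, (g ^ k) (v i) = ζ ^ k • v i := fun k => by
        induction k with
        | zero => simp
        | succ k ih => rw [pow_succ', Module.End.mul_apply, ih, map_smul, hζ', smul_smul, ← pow_succ]
      have hζr := hpow r
      rw [hg, Module.End.one_apply] at hζr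
      have h2 : ζ = 1 := hone ζ (smul_left_injective F (hv0 i) (by simpa using hζr.symm))
      rw [orbitSum_fixed (by rw [hζ', h2, one_smul])] at h0
      exact hv0 i ((smul_eq_zero.1 h0).resolve_left hrF)
    · rw [orbitSum_eq_fin] at h0
      exact hv0 i (orbit_independent hg hind hpos hσ hi (fun _ => v i) (fun _ => hv i) h0 ⟨0, hr0⟩)
  have hmem : ∀ i, orbitSum r g (v i) ∈ ⨆ j ∈ orb i, D j := fun i => by
    rw [orbitSum, LinearMap.sum_apply]
    refine Submodule.sum_mem _ fun k hk => ?_
    exact le_iSup₂ (f := fun j _ => D j) _ (Finset.mem_image_of_mem _ hk) (pow_mem_summand hσ i (hv i) k)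
  let S : Finset (Finset (Fin t)) := Finset.univ.image orb
  have hS : ∀ s ∈ S, ∃ i, orb i = s := fun s hs => by simpa [S] using hs
  choose rep hrep using hS
  have hself : ∀ i, i ∈ orb i := fun i => Finset.mem_image.2 ⟨0, Finset.mem_range.2 hr0, rfl⟩
  have hdisj : ∀ s : S, ∀ s' : S, s ≠ s' → Disjoint (s : Finset (Fin t)) s' := by
    intro s s' hne
    rw [Finset.disjoint_left]
    intro l hl hl'
    have e1 := horb _ l ((hrep s.1 s.2).symm ▸ hl)
    have e2 := horb _ l ((hrep s'.1 s'.2).symm ▸ hl')
    exact hne (Subtype.ext ((hrep s.1 s.2).symm.trans (e1.symm.trans (e2.trans (hrep s'.1 s'.2)))))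
  have hli : LinearIndependent F fun s : S => orbitSum r g (v (rep s.1 s.2)) := by
    refine iSupIndep.linearIndependent (fun s : S => ⨆ j ∈ (s : Finset (Fin t)), D j) (fun s => ?_) ?_ ?_
    · refine Disjoint.mono_right (iSup₂_le fun s' hs' => iSup₂_le fun j hj => ?_)
        (hind.disjoint_biSup_biSup (s := ((s : Finset (Fin t)) : Set (Fin t))) (t := {j | j ∉ (s : Finset (Fin t))}) ?_)
      · exact le_iSup₂ (f := fun j _ => D j) j fun h => Finset.disjoint_left.1 (hdisj s' s hs') hj h
      · rw [Set.disjoint_left]; exact fun j hj hj' => hj' hj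
    · exact fun s => by simpa only [hrep s.1 s.2] using hmem (rep s.1 s.2)
    · exact fun s => hO _
  have hle : S.card ≤ finrank F (fixSp g) := by
    have h := finrank_span_eq_card hli
    rw [Fintype.card_coe] at h
    rw [← h]
    refine Submodule.finrank_mono (Submodule.span_le.2 ?_)
    rintro _ ⟨s, rfl⟩
    exact mem_fixSp.2 (apply_orbitSum hg _)
  have hcount := Finset.card_le_mul_card_image (f := orb) (Finset.univ : Finset (Fin t)) r fun s hs => ?_
  · rw [Finset.card_univ, Fintype.card_fin] at hcount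
    exact hcount.trans (Nat.mul_le_mul_left _ hle)
  · refine le_trans (Finset.card_le_card (t := orb (rep s hs)) fun l hl => ?_) (Finset.card_image_le.trans (Finset.card_range r).le)
    · show l ∈ orb (rep s hs)
      rw [hrep s hs, ← (Finset.mem_filter.1 hl).2]
      exact hself l

end CfsgLib.Geo.ImprimPrime
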