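/-
Linear maps of prime order and decompositions into equidimensional summands.
-/
import Cfsg.Agent.Lib.Geo.ImprimPrime.Dec
import Cfsg.Agent.Lib.Geo.ImprimPrime.NoDec
import Cfsg.Agent.Lib.Geo.ImprimPrime.Count

set_option autoImplicit false
set_option maxHeartbeats 800000
set_option linter.unusedSectionVars false
set_option linter.style.haveILetI false

namespace CfsgLib.Geo.ImprimPrime

open Module CfsgLib.Geo.PrimeAct
open scoped Pointwise

variable {F : Type*} [Field F] [Finite F] {r : ℕ} [Fact r.Prime]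

local notation "ordq" => orderOf (Nat.card F : ZMod r)

theorem ord_pos_le {p : ℕ} [Fact p.Prime] [CharP F p] (hrp : r ≠ p) : 0 < ordq ∧ ordq ≤ r - 1 := by
  haveI := Fintype.ofFinite F
  have hu : (Nat.card F : ZMod r) ≠ 0 := by
    obtain ⟨k, -, hk⟩ := FiniteField.card F p
    rw [Nat.card_eq_fintype_card, hk, Nat.cast_pow]
    refine pow_ne_zero _ fun h => hrp ?_
    exact (Nat.prime_dvd_prime_iff_eq Fact.out Fact.out).1 ((ZMod.natCast_eq_zero_iff p r).1 h)
  exact ⟨orderOf_pos_iff.2 (isOfFinOrder_iff_pow_eq_one.2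
      ⟨r - 1, by have := (Fact.out : r.Prime).two_le; omega, ZMod.pow_card_sub_one_eq_one hu⟩),
    Nat.le_of_dvd (by have := (Fact.out : r.Prime).two_le; omega) (ZMod.orderOf_dvd_card_sub_one hu)⟩

theorem eq_one_of_pow_eq_one (h1 : ordq ≠ 1) {ζ : F} (hζ : ζ ^ r = 1) : ζ = 1 := by
  by_contra hne
  have ho : orderOf ζ = r := orderOf_eq_prime hζ hne
  haveI := Fintype.ofFinite F
  have hz : ζ ≠ 0 := fun h => by rw [h, zero_pow (Fact.out : r.Prime).ne_zero] at hζ; exact zero_ne_one hζ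
  have hd : orderOf ζ ∣ Fintype.card F - 1 := orderOf_dvd_of_pow_eq_one (FiniteField.pow_card_sub_one_eq_one ζ hz)
  rw [ho, ← Nat.card_eq_fintype_card, ← ZMod.natCast_eq_zero_iff, Nat.cast_sub Nat.card_pos, Nat.cast_one,
    sub_eq_zero] at hd
  exact h1 (orderOf_eq_one_iff.2 hd)

theorem sup_fix_rest {V : Type*} [AddCommGroup V] [Module F V] [FiniteDimensional F V] {g : V →ₗ[F] V}
    (hg : g ^ r = 1) (hrF : (r : F) ≠ 0) :
    finrank F (restSp r g) + finrank F (fixSp g) = finrank F V ∧ restSp r g ⊔ fixSp g = ⊤ := by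
  have h := finrank_split hg hrF ⊤ fun _ _ => Submodule.mem_top
  rw [top_inf_eq, top_inf_eq, finrank_top] at h
  refine ⟨by omega, Submodule.eq_top_of_finrank_eq ?_⟩
  rw [inf_fix_rest hrF le_rfl le_rfl]
  omega

theorem linear_positive {n a t : ℕ} (hat : n = a * t) (ha : 1 ≤ a) (ht : 2 ≤ t) (hrF : (r : F) ≠ 0)
    (hcrit : (a = 1 ∧ ordq + 1 = r ∧ n ≤ (n % ordq) * r) ∨ (ordq ≤ a ∧ n % ordq = t * (a % ordq))) (hc0 : 0 < ordq)
    (T : (Fin n → F) →ₗ[F] (Fin n → F)) (hinj : Function.Injective T) {z : F} (hz : z ≠ 0)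
    (hT : T ^ r = z • (1 : (Fin n → F) →ₗ[F] (Fin n → F))) : Dec T ⊤ a t := by
  classical
  set c := orderOf (Nat.card F : ZMod r)
  have hn : finrank F (Fin n → F) = n := by simp
  by_cases hp : ∃ w, w ^ r = z
  swap
  · exact dec_nonpower T z (fun d hd => hp ⟨d, hd⟩) hT (hn.trans hat) (by omega) (by omega)
  obtain ⟨w, hw⟩ := hp
  have hw0 : w ≠ 0 := fun h => by rw [h, zero_pow (Fact.out : r.Prime).ne_zero] at hw; exact hz hw.symm
  set g := w⁻¹ • T with hgdef
  have hg : g ^ r = 1 := by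
    rw [hgdef, smul_pow, hT, smul_smul, inv_pow, hw, inv_mul_cancel₀ hz, one_smul]
  suffices h : Dec g ⊤ a t by
    obtain ⟨v, σ, hv, hsp, hmap⟩ := h
    refine ⟨v, σ, hv, hsp, fun p => ?_⟩
    have : T (v p) = w • g (v p) := by simp [hgdef, smul_smul, mul_inv_cancel₀ hw0]
    rw [this]
    exact Submodule.smul_mem _ _ (hmap p)
  obtain ⟨hsum, htop⟩ := sup_fix_rest hg hrF
  rw [hn] at hsum
  obtain ⟨j, hj⟩ : c ∣ finrank F (restSp r g) := by
    have := orderOf_dvd_finrank_inf_rest hg hrF ⊤ fun _ _ => Submodule.mem_top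
    rwa [top_inf_eq] at this
  rw [mul_comm] at hj
  have hnc := Nat.mod_add_div n c
  have hkc := Nat.mod_lt n hc0
  rw [← htop]
  rcases hcrit with ⟨rfl, hc, hle⟩ | ⟨hca, hk⟩
  · have hjn : j ≤ n / c := by rw [Nat.le_div_iff_mul_le hc0]; omega
    have hMk : n / c ≤ n % c := by
      rw [← hc, Nat.mul_add, mul_one] at hle
      have h3 : c * (n / c) ≤ c * (n % c) := by rw [mul_comm c (n % c)]; omega
      exact Nat.le_of_mul_le_mul_left h3 hc0
    have h4 : j * c ≤ c * (n / c) := by rw [mul_comm j c]; exact Nat.mul_le_mul_left _ hjn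
    obtain rfl : t = finrank F (restSp r g) + finrank F (fixSp g) := by omega
    exact dec_regular hg hrF hc j (restSp_invariant hg) le_rfl le_rfl hj (by omega)
  · refine dec_split hg hrF (Nat.div_mul_le_self a c) t (restSp_invariant hg) le_rfl le_rfl j hj ?_
      (by rw [hsum, hat, mul_comm])
    have hac := Nat.mod_add_div a c
    have h1 : n = t * (a / c) * c + n % c := by
      rw [hk, hat]
      conv_lhs => rw [← hac]
      ring
    have h2 : j * c < (t * (a / c) + 1) * c := by rw [Nat.add_mul, one_mul]; omega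
    have := Nat.lt_of_mul_lt_mul_right h2
    omega

theorem exists_family_of_count {n a t : ℕ} (hat : n = a * t) (ha : 1 ≤ a) (ht : 2 ≤ t) :
    ∃ D : Fin t → Submodule F (Fin n → F), Cfsg.Geo.IsMDecomposition a D := by
  let b := Pi.basisFun F (Fin n)
  have h := dec_of_basis (f := (LinearMap.id : (Fin n → F) →ₗ[F] (Fin n → F))) b
    ((finCongr (hat.trans (mul_comm a t))).trans finProdFinEquiv.symm) 1 id (fun i => ⟨1, by simp⟩) (fun i => rfl)
  obtain ⟨D, hrank, hind, htop, -⟩ := h.exists_family Function.injective_id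
  exact ⟨D, ⟨ht, by omega, hrank, hind, htop⟩⟩

theorem linear_ord_le {n a t : ℕ} (hrF : (r : F) ≠ 0) (hat : n = a * t) (ha : 1 ≤ a) (ht : 2 ≤ t)
    (hΩ : r ∣ Nat.card {D : Fin t → Submodule F (Fin n → F) // Cfsg.Geo.IsMDecomposition a D} / Nat.factorial t) :
    ordq ≤ n := by
  classical
  haveI : Finite ((Fin n → F) ≃ₗ[F] (Fin n → F)) := finite_linearEquiv
  haveI : Finite (Submodule F (Fin n → F)) := Finite.of_injective (fun W => (W : Set (Fin n → F))) SetLike.coe_injective
  have hinjD : ∀ D : Fin t → Submodule F (Fin n → F), Cfsg.Geo.IsMDecomposition a D → Function.Injective D := fun D h =>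
    h.indep.injective fun i hi => by have := h.finrank_eq i; rw [hi, finrank_bot] at this; omega
  have hr : r ∣ Nat.card ((Fin n → F) ≃ₗ[F] (Fin n → F)) := by
    refine dvd_card_group (F := F) (V := Fin n → F) (fun D => Cfsg.Geo.IsMDecomposition a D) ?_ hinjD
      (exists_family_of_count hat ha ht) ?_ ?_ hΩ
    · intro D σ h
      exact ⟨h.two_le, h.pos, fun i => h.finrank_eq _, h.indep.comp σ.injective,
        (Equiv.iSup_comp σ).trans h.iSup_eq_top⟩
    · intro D g h
      refine ⟨h.two_le, h.pos, fun i => ?_, ?_, ?_⟩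
      · rw [Pi.smul_apply, smul_eq_map, LinearEquiv.finrank_map_eq, h.finrank_eq]
      · exact h.indep.map_orderIso (Submodule.orderIsoMapComap g)
      · have h2 : (iSup D).map g.toLinearMap = ⨆ i, (D i).map g.toLinearMap := Submodule.map_iSup _ _
        rw [h.iSup_eq_top, Submodule.map_top, LinearEquiv.range] at h2
        exact h2.symm
    · intro D D' h h'
      obtain ⟨E, hE⟩ := exists_glue h.indep h'.indep h.iSup_eq_top h'.iSup_eq_top
        (fun i => LinearEquiv.ofFinrankEq (D i) (D' i) ((h.finrank_eq i).trans (h'.finrank_eq i).symm))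
      exact ⟨E, funext fun i => (smul_eq_map _ _).trans (map_eq_of_glue _ _ (hE i))⟩
  obtain ⟨e, he⟩ := exists_prime_orderOf_dvd_card' r hr
  have hf : (e.toLinearMap) ^ r = 1 := by
    have h := congrArg LinearEquiv.toLinearMap (pow_orderOf_eq_one e)
    rw [he] at h
    have hk : ∀ k : ℕ, (e ^ k).toLinearMap = e.toLinearMap ^ k := fun k => by
      induction k with
      | zero => rfl
      | succ k ih => rw [pow_succ', pow_succ' e.toLinearMap, ← ih]; rfl
    rw [hk] at h
    exact h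
  obtain ⟨hsum, -⟩ := sup_fix_rest hf hrF
  have hd := orderOf_dvd_finrank_inf_rest hf hrF ⊤ fun _ _ => Submodule.mem_top
  rw [top_inf_eq] at hd
  rw [finrank_pi, Fintype.card_fin] at hsum
  have hpos : 0 < finrank F (restSp r e.toLinearMap) := by
    by_contra h0
    have htop : fixSp e.toLinearMap = ⊤ := Submodule.eq_top_of_finrank_eq (by rw [finrank_pi, Fintype.card_fin]; omega)
    have h1 : e = 1 := LinearEquiv.ext fun v => mem_fixSp.1 (htop ▸ Submodule.mem_top : v ∈ fixSp e.toLinearMap)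
    rw [h1, orderOf_one] at he
    exact (Fact.out : r.Prime).ne_one he.symm
  exact (Nat.le_of_dvd hpos hd).trans (by omega)

/-- The element with `k` free blocks. -/
theorem exists_linear_witness {n : ℕ} (hrF : (r : F) ≠ 0) (hc : 0 < ordq) (hc1 : ordq ≠ 1) {k : ℕ} (hk : 0 < k)
    (hkn : k * ordq ≤ n) :
    ∃ x : Matrix.SpecialLinearGroup (Fin n) F,
      ((x ^ r : Matrix.SpecialLinearGroup (Fin n) F) : Matrix (Fin n) (Fin n) F) =
        (1 : F) • (1 : Matrix (Fin n) (Fin n) F) ∧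
      (∀ z : F, (x : Matrix (Fin n) (Fin n) F) ≠ z • (1 : Matrix (Fin n) (Fin n) F)) ∧
      Matrix.toLin' (x : Matrix (Fin n) (Fin n) F) ^ r = 1 ∧
      finrank F (fixSp (Matrix.toLin' (x : Matrix (Fin n) (Fin n) F))) + k * ordq = n := by
  obtain ⟨f, hf, hfix⟩ := exists_order_fix hrF hc n k hkn
  set A := LinearMap.toMatrix' f with hA
  have hAr : A ^ r = 1 := by
    show (LinearMap.toMatrixAlgEquiv' f) ^ r = 1
    rw [← map_pow, hf, map_one]
  have hdet : A.det = 1 := eq_one_of_pow_eq_one hc1 (by rw [← Matrix.det_pow, hAr, Matrix.det_one])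
  have hAf : Matrix.toLin' A = f := Matrix.toLin'_toMatrix' f
  refine ⟨⟨A, hdet⟩, ?_, fun z hz => ?_, ?_, ?_⟩
  · rw [one_smul]
    exact (Matrix.SpecialLinearGroup.coe_pow (⟨A, hdet⟩ : Matrix.SpecialLinearGroup (Fin n) F) r).trans hAr
  · change A = z • 1 at hz
    have hn0 : 0 < n := (Nat.mul_pos hk hc).trans_le hkn
    have hz1 : z = 1 := by
      refine eq_one_of_pow_eq_one hc1 ?_
      have h1 := congrFun (congrFun hAr ⟨0, hn0⟩) ⟨0, hn0⟩
      rw [hz, smul_pow, one_pow, Matrix.smul_apply, Matrix.one_apply_eq, smul_eq_mul, mul_one] at h1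
      exact h1
    have hf1 : fixSp f = ⊤ := Submodule.eq_top_iff'.2 fun v => mem_fixSp.2 (by
      rw [← hAf, hz, hz1, one_smul, Matrix.toLin'_one]; rfl)
    rw [hf1, finrank_top, finrank_pi, Fintype.card_fin] at hfix
    have := Nat.mul_pos hk hc
    omega
  · change Matrix.toLin' A ^ r = 1
    rw [hAf]; exact hf
  · change finrank F (fixSp (Matrix.toLin' A)) + _ = n
    rw [hAf]; exact hfix

theorem linear_criterion {n a t : ℕ} (hrF : (r : F) ≠ 0) (hat : n = a * t) (ha : 1 ≤ a) (ht : 2 ≤ t) (hc0 : 0 < ordq)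
    (hcr : ordq ≤ r - 1) (hcn : ordq ≤ n)
    (H : ∀ x : Matrix.SpecialLinearGroup (Fin n) F,
      (∃ z : F, ((x ^ r : Matrix.SpecialLinearGroup (Fin n) F) : Matrix (Fin n) (Fin n) F) =
        z • (1 : Matrix (Fin n) (Fin n) F)) →
      (∀ z : F, (x : Matrix (Fin n) (Fin n) F) ≠ z • (1 : Matrix (Fin n) (Fin n) F)) →
      ∃ D : Fin t → Submodule F (Fin n → F), Cfsg.Geo.IsMDecomposition a D ∧
        ∃ σ : Equiv.Perm (Fin t), ∀ j, (D j).map (Matrix.toLin' (x : Matrix (Fin n) (Fin n) F)) = D (σ j)) :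
    (a = 1 ∧ 1 < ordq ∧ ordq = r - 1 ∧ n ≤ (n % ordq) * r) ∨ (ordq ≤ a ∧ n % ordq = t * (a % ordq)) := by
  set c := orderOf (Nat.card F : ZMod r) with hcdef
  have hr2 := (Fact.out : r.Prime).two_le
  rcases Nat.eq_or_lt_of_le (show 1 ≤ c from hc0) with h1 | h1
  · exact Or.inr ⟨by omega, by rw [← h1, Nat.mod_one, Nat.mod_one, mul_zero]⟩
  have hW : ∀ k, 0 < k → k * c ≤ n → ∃ (g : (Fin n → F) →ₗ[F] (Fin n → F)) (D : Fin t → Submodule F (Fin n → F))
      (σ : Equiv.Perm (Fin t)), g ^ r = 1 ∧ Cfsg.Geo.IsMDecomposition a D ∧ (∀ j, (D j).map g = D (σ j)) ∧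
        finrank F (fixSp g) + k * c = n ∧ finrank F (restSp r g) = k * c := by
    intro k hk hkn
    obtain ⟨x, hxr, hns, hg, hfix⟩ := exists_linear_witness hrF hc0 (by omega) hk hkn
    obtain ⟨D, hD, σ, hσ⟩ := H x ⟨1, hxr⟩ hns
    have hs := (sup_fix_rest hg hrF).1
    rw [finrank_pi, Fintype.card_fin] at hs
    rw [← hcdef] at hfix
    exact ⟨_, D, σ, hg, hD, hσ, hfix, by omega⟩
  have hne : ∀ {D : Fin t → Submodule F (Fin n → F)}, Cfsg.Geo.IsMDecomposition a D → ∀ i, D i ≠ ⊥ := fun h i hi => by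
    have := h.finrank_eq i; rw [hi, finrank_bot] at this; omega
  have hnc := Nat.mod_add_div n c
  have hM : 0 < n / c := Nat.div_pos hcn hc0
  obtain ⟨g, D, σ, hg, hD, hσ, hfix, hrest⟩ := hW (n / c) hM (Nat.div_mul_le_self n c)
  have hfix' : finrank F (fixSp g) = n % c := by rw [mul_comm] at hfix; omega
  have hkc := Nat.mod_lt n hc0
  rcases Nat.lt_or_ge a c with hac | hac
  · left
    obtain ⟨g', D', σ', hg', hD', hσ', hfix'', hrest'⟩ := hW 1 Nat.one_pos (by rw [one_mul]; exact hcn)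
    have hmoved : ∃ i, σ' i ≠ i := by
      by_contra! hall
      obtain ⟨φ, ρ, hφρ, -, hρsum⟩ := fixed_bounds hg' hrF hD'.indep hD'.iSup_eq_top
        (fun i => by rw [hσ' i, hall i])
      rw [hrest', ← hcdef, one_mul] at hρsum
      have h0 : ∀ i, ρ i * c = 0 := fun i => by
        have h5 := hφρ i
        rw [hD'.finrank_eq, ← hcdef] at h5
        rcases Nat.eq_zero_or_pos (ρ i) with h6 | h6
        · rw [h6, zero_mul]
        · have : c ≤ ρ i * c := Nat.le_mul_of_pos_left c h6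
          omega
      rw [Finset.sum_eq_zero fun i _ => h0 i] at hρsum
      omega
    obtain ⟨i, hi⟩ := hmoved
    have h := (moved_bounds hg' hrF hD'.indep (hne hD') hσ' hi).2
    rw [hD'.finrank_eq, hrest', one_mul] at h
    have hra : r - 1 ≤ (r - 1) * a := Nat.le_mul_of_pos_right _ ha
    have ha1 : a = 1 := by
      by_contra ha1
      have : (r - 1) * 2 ≤ (r - 1) * a := Nat.mul_le_mul_left _ (by omega)
      omega
    refine ⟨ha1, h1, by omega, ?_⟩
    have h6 := lines_bound hg hrF (fun ζ hζ => eq_one_of_pow_eq_one (F := F) (r := r) (by omega) hζ)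
      (fun i => (hD.finrank_eq i).trans ha1) hD.indep hD.iSup_eq_top hσ
    rw [hfix', mul_comm r] at h6
    have htn : t = n := by rw [hat, ha1, one_mul]
    omega
  · right
    refine ⟨hac, ?_⟩
    have hall : ∀ i, σ i = i := fun i => by
      by_contra hi
      have h := (moved_bounds hg hrF hD.indep (hne hD) hσ hi).1
      rw [hD.finrank_eq, hfix'] at h
      omega
    obtain ⟨φ, ρ, hφρ, hφsum, -⟩ := fixed_bounds hg hrF hD.indep hD.iSup_eq_top (fun i => by rw [hσ i, hall i])
    have hφ : ∀ i, a % c ≤ φ i := fun i => by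
      have h := hφρ i
      rw [hD.finrank_eq, ← hcdef] at h
      rw [← h, Nat.add_mul_mod_self_right]
      exact Nat.mod_le _ _
    have h5 := Finset.sum_le_sum (s := Finset.univ) fun i _ => hφ i
    rw [hφsum, hfix', Finset.sum_const, Finset.card_univ, Fintype.card_fin, smul_eq_mul] at h5
    refine le_antisymm ?_ h5
    rw [hat, mul_comm a t, Nat.mul_mod]
    refine (Nat.mod_le _ _).trans (Nat.mul_le_mul_right _ (Nat.mod_le _ _))

end CfsgLib.Geo.ImprimPrime
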