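/-
Nondegenerate invariant subspaces of isometries of prime order of alternating forms.
-/
import Cfsg.Agent.Lib.Geo.ImprimPrime.Dec
import Cfsg.Agent.Lib.Geo.PrimeSympElements

set_option autoImplicit false
set_option maxHeartbeats 800000
set_option linter.unusedSectionVars false
set_option linter.style.haveILetI false

namespace CfsgLib.Geo.ImprimPrime

open Module Polynomial CfsgLib.Geo.PrimeAct
open LinearMap (BilinForm)

variable {F : Type*} [Field F] {V : Type*} [AddCommGroup V] [Module F V]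

/-- Nondegenerate on a subspace. -/
def NDeg (B : BilinForm F V) (W : Submodule F V) : Prop := ∀ u ∈ W, (∀ v ∈ W, B u v = 0) → u = 0

theorem aeval_restrict_apply (g : V →ₗ[F] V) {W : Submodule F V} (hW : ∀ v ∈ W, g v ∈ W) (p : F[X]) (w : W) :
    ((aeval (g.restrict hW) p) w : V) = aeval g p (w : V) := by
  induction p using Polynomial.induction_on' with
  | add p q hp hq => simp [map_add, hp, hq]
  | monomial k a =>
    rw [aeval_monomial, aeval_monomial, Module.End.mul_apply, Module.End.mul_apply,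
      Module.algebraMap_end_apply, Module.algebraMap_end_apply, Submodule.coe_smul, restrict_pow_apply]

variable [Finite F] [FiniteDimensional F V] {B : BilinForm F V} {g : V →ₗ[F] V} {r : ℕ} [Fact r.Prime]

theorem aeval_pow_card (h : Module.End F V) (p : F[X]) :
    ∀ k : ℕ, aeval (h ^ (Nat.card F ^ k)) p = aeval h p ^ (Nat.card F ^ k) := by
  haveI := Fintype.ofFinite F
  intro k
  induction k with
  | zero => simp
  | succ k ih =>
    rw [pow_succ, pow_mul, pow_mul, ← ih, ← Polynomial.expand_aeval, Nat.card_eq_fintype_card,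
      FiniteField.expand_card, map_pow]

/-- The adjoint of a polynomial in an isometry. -/
theorem aeval_adjoint (hg : g ^ r = 1) (hT : ∀ u v, B (g u) (g v) = B u v) (p : F[X]) (u v : V) :
    B (aeval g p u) v = B u (aeval (g ^ (r - 1)) p v) := by
  induction p using Polynomial.induction_on' with
  | add p q hp hq => simp [map_add, hp, hq]
  | monomial k a =>
    rw [aeval_monomial, aeval_monomial, Module.End.mul_apply, Module.End.mul_apply,
      Module.algebraMap_end_apply, Module.algebraMap_end_apply, LinearMap.map_smul₂, map_smul]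
    congr 1
    have h := CfsgLib.Geo.PrimeSp.form_pow hT k u (((g ^ (r - 1)) ^ k) v)
    rw [← h, ← Module.End.mul_apply (g ^ k), ← pow_mul, ← pow_add]
    have hk : k + (r - 1) * k = r * k := by
      rw [Nat.sub_mul, one_mul]
      have := Nat.le_mul_of_pos_left k (Fact.out : r.Prime).pos
      omega
    rw [hk, pow_mul, hg, one_pow]
    rfl

theorem dvd_invariant (hg : g ^ r = 1) (hfree : ∀ v, g v = v → v = 0) {W : Submodule F V}
    (hW : ∀ v ∈ W, g v ∈ W) : orderOf (Nat.card F : ZMod r) ∣ finrank F W :=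
  orderOf_dvd_finrank (g.restrict hW) (restrict_pow_eq_one g hg hW)
    fun v hv => Subtype.ext (hfree v (congrArg Subtype.val hv))

theorem injective_of_pow (hg : g ^ r = 1) : Function.Injective g := fun u v h => by
  have h1 := congrArg (g ^ (r - 1)) h
  rw [← Module.End.mul_apply, ← Module.End.mul_apply, ← pow_succ,
    Nat.sub_add_cancel (Fact.out : r.Prime).one_le, hg] at h1
  exact h1

theorem orth_invariant (hg : g ^ r = 1) (hT : ∀ u v, B (g u) (g v) = B u v) {W : Submodule F V}
    (hW : ∀ v ∈ W, g v ∈ W) : ∀ v ∈ B.orthogonal W, g v ∈ B.orthogonal W := by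
  intro v hv
  refine CfsgLib.Classical.Symp.mem_orthogonal.2 fun w hw => ?_
  have hs : Function.Surjective (g.restrict hW) := LinearMap.surjective_of_injective
    fun x y h => Subtype.ext (injective_of_pow hg (congrArg Subtype.val h))
  obtain ⟨w', hw'⟩ := hs ⟨w, hw⟩
  rw [show w = g w' from (congrArg Subtype.val hw').symm, hT]
  exact CfsgLib.Classical.Symp.mem_orthogonal.1 hv w' w'.2

/-- In the self-dual case some irreducible subspace is nondegenerate. -/
theorem exists_piece_self (hA : B.IsAlt) (hn : ∀ u, (∀ v, B u v = 0) → u = 0) (hr2 : r ≠ 2) (hrF : (r : F) ≠ 0)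
    (hg : g ^ r = 1) (hT : ∀ u v, B (g u) (g v) = B u v) (hfree : ∀ v, g v = v → v = 0) (hV : 0 < finrank F V)
    (heven : Even (orderOf (Nat.card F : ZMod r))) (hi0 : 0 < orderOf (Nat.card F : ZMod r)) :
    ∃ C : Submodule F V, (∀ v ∈ C, g v ∈ C) ∧ NDeg B C ∧ finrank F C = orderOf (Nat.card F : ZMod r) := by
  set i := orderOf (Nat.card F : ZMod r) with hidef
  obtain ⟨W, hW, hWd⟩ := exists_invariant_order g hg hfree hV
  set gW := g.restrict hW with hgW
  set m := minpoly F gW with hm
  have hint : IsIntegral F gW := Algebra.IsIntegral.isIntegral gW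
  have hmon : m.Monic := minpoly.monic hint
  have hmdeg : m.natDegree ≤ i := by
    rw [hidef, ← hWd, ← LinearMap.charpoly_natDegree gW]
    exact Polynomial.natDegree_le_of_dvd (LinearMap.minpoly_dvd_charpoly gW) gW.charpoly_monic.ne_zero
  obtain ⟨w₀, hw₀, hw00⟩ := Submodule.exists_mem_ne_zero_of_ne_bot
    (show W ≠ ⊥ from fun h => by rw [h, finrank_bot] at hWd; omega)
  have hWker : ∀ w ∈ W, aeval g m w = 0 := fun w hw => by
    have h := aeval_restrict_apply g hW m ⟨w, hw⟩
    rw [← hgW, hm, minpoly.aeval] at h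
    exact h.symm
  haveI : Nontrivial W := Module.nontrivial_of_finrank_pos (R := F) (by omega)
  have hdpos : 0 < m.natDegree := minpoly.natDegree_pos hint
  obtain ⟨h', hh'⟩ : m ∣ X ^ r - C (1 : F) := minpoly.dvd F gW (by
    rw [map_sub, map_pow, aeval_X, aeval_C, map_one, hgW, restrict_pow_eq_one g hg hW, sub_self])
  have hsep := Polynomial.separable_X_pow_sub_C (n := r) (1 : F) hrF one_ne_zero
  have hcop : IsCoprime m h' := Polynomial.Separable.isCoprime (hh' ▸ hsep)
  set U := LinearMap.ker (aeval g m) with hU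
  have hdual : ∀ v ∈ U, aeval (g ^ (r - 1)) m v = 0 := by
    intro v hv
    obtain ⟨k, hk⟩ := heven
    have hq : ((Nat.card F ^ k : ℕ) : ZMod r) = -1 := by
      have h2 : ((Nat.card F : ZMod r) ^ k) * ((Nat.card F : ZMod r) ^ k) = 1 := by
        rw [← pow_add, ← hk]; exact pow_orderOf_eq_one _
      rw [Nat.cast_pow]
      refine (mul_self_eq_one_iff.1 h2).resolve_left fun h1 => ?_
      have := Nat.le_of_dvd (by omega) (orderOf_dvd_of_pow_eq_one h1)
      rw [← hidef] at this
      omega
    have he : g ^ (r - 1) = g ^ (Nat.card F ^ k) := by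
      rw [pow_eq_pow_mod (r - 1) hg, pow_eq_pow_mod (Nat.card F ^ k) hg]
      congr 1
      refine (ZMod.natCast_eq_natCast_iff' _ _ _).1 ?_
      rw [hq, Nat.cast_sub (Fact.out : r.Prime).one_le, ZMod.natCast_self, Nat.cast_one, zero_sub]
    rw [he, aeval_pow_card]
    obtain ⟨l, hl⟩ : ∃ l, Nat.card F ^ k = l + 1 :=
      ⟨Nat.card F ^ k - 1, by have := Nat.one_le_pow k _ (Nat.card_pos (α := F)); omega⟩
    rw [hl, pow_succ, Module.End.mul_apply, LinearMap.mem_ker.1 hv, map_zero]
  have hdisj : ∀ v ∈ U, v ∈ LinearMap.range (aeval g m) → v = 0 := by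
    rintro v hv ⟨y, rfl⟩
    obtain ⟨a, b, hab⟩ := hcop
    have h0 : aeval g (h' * m) y = 0 := by
      rw [mul_comm, ← hh', map_sub, map_pow, aeval_X, aeval_C, map_one, hg, sub_self]
      rfl
    have h1 := congrArg (fun p => aeval g p (aeval g m y)) hab
    simp only [map_add, map_mul, map_one, LinearMap.add_apply, Module.End.mul_apply, Module.End.one_apply] at h1
    rw [LinearMap.mem_ker.1 hv, map_zero, zero_add] at h1
    rw [map_mul, Module.End.mul_apply] at h0
    rw [h0, map_zero] at h1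
    exact h1.symm
  have hsup : U ⊔ LinearMap.range (aeval g m) = ⊤ := by
    refine Submodule.eq_top_of_finrank_eq ?_
    have h := Submodule.finrank_sup_add_finrank_inf_eq U (LinearMap.range (aeval g m))
    rw [show U ⊓ LinearMap.range (aeval g m) = ⊥ from (Submodule.eq_bot_iff _).2 fun v hv => hdisj v hv.1 hv.2,
      finrank_bot, add_zero] at h
    rw [h, add_comm, LinearMap.finrank_range_add_finrank_ker]
  have hUn : NDeg B U := fun u hu h => hn u fun v => by
    obtain ⟨a, ha, _, ⟨b, rfl⟩, rfl⟩ := Submodule.mem_sup.1 (hsup.ge (Submodule.mem_top : v ∈ ⊤))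
    rw [map_add, h a ha, zero_add, ← LinearMap.IsAlt.neg hA, aeval_adjoint hg hT, hdual u hu, map_zero, neg_zero]
  have hUg : ∀ v ∈ U, g v ∈ U := fun v hv => by
    rw [hU, LinearMap.mem_ker]
    have h : aeval g m (g v) = g (aeval g m v) := by
      have h1 : aeval g (m * X) v = aeval g (X * m) v := by rw [mul_comm]
      simpa [map_mul, Module.End.mul_apply] using h1
    rw [h, LinearMap.mem_ker.1 hv, map_zero]
  obtain ⟨u, hu, hune⟩ : ∃ u ∈ U, B u (g u) ≠ 0 := by
    by_contra! hall
    refine hw00 (hfree w₀ ?_)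
    have hwU : w₀ ∈ U := LinearMap.mem_ker.2 (hWker w₀ hw₀)
    have hsym : ∀ u ∈ U, ∀ v ∈ U, B u (g v) = B (g u) v := fun u hu v hv => by
      have h := hall (u + v) (U.add_mem hu hv)
      simp only [map_add, LinearMap.add_apply, hall u hu, hall v hv] at h
      rw [← LinearMap.IsAlt.neg hA v (g u)]
      linear_combination h
    have h2 : g (g w₀) = w₀ := sub_eq_zero.1 (hUn _ (U.sub_mem (hUg _ (hUg _ hwU)) hwU) fun v hv => by
      rw [map_sub, LinearMap.sub_apply, ← hsym _ (hUg _ hwU) v hv, hT, sub_self])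
    obtain ⟨l, hl⟩ := (Fact.out : r.Prime).odd_of_ne_two hr2
    have h3 : ∀ l : ℕ, (g ^ (2 * l)) w₀ = w₀ := fun l => by
      induction l with
      | zero => rfl
      | succ l ih => rw [Nat.mul_succ, pow_add, Module.End.mul_apply, pow_two, Module.End.mul_apply, h2, ih]
    have h4 := LinearMap.congr_fun hg w₀
    rw [hl, pow_succ', Module.End.mul_apply, h3] at h4
    exact h4
  set S := Submodule.span F (Set.range fun k : Fin m.natDegree => (g ^ (k : ℕ)) u) with hS
  have hmemS : ∀ k : ℕ, k < m.natDegree → (g ^ k) u ∈ S := fun k hk => Submodule.subset_span ⟨⟨k, hk⟩, rfl⟩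
  have hSg : ∀ v ∈ S, g v ∈ S := by
    show S ≤ S.comap g
    rw [hS, Submodule.span_le]
    rintro _ ⟨k, rfl⟩
    show g ((g ^ (k : ℕ)) u) ∈ S
    rw [← Module.End.mul_apply, ← pow_succ']
    rcases Nat.lt_or_ge ((k : ℕ) + 1) m.natDegree with hlt | hge
    · exact hmemS _ hlt
    · rw [show (k : ℕ) + 1 = m.natDegree by have := k.2; omega]
      have h := LinearMap.mem_ker.1 hu
      rw [aeval_eq_sum_range, LinearMap.sum_apply, Finset.sum_range_succ, hmon.coeff_natDegree, one_smul,
        add_eq_zero_iff_eq_neg'] at h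
      rw [h]
      refine S.neg_mem (S.sum_mem fun l hl => ?_)
      rw [LinearMap.smul_apply]
      exact S.smul_mem _ (hmemS l (Finset.mem_range.1 hl))
  have huS : u ∈ S := by simpa using hmemS 0 hdpos
  have hle : finrank F S ≤ i := (finrank_range_le_card _).trans (by rw [Fintype.card_fin]; exact hmdeg)
  have hu0 : u ≠ 0 := fun h => hune (by rw [h, map_zero, LinearMap.zero_apply])
  have hSpos : 0 < finrank F S := Nat.pos_of_ne_zero fun h0 => hu0 ((Submodule.mem_bot F).1
    (Submodule.finrank_eq_zero.1 h0 ▸ huS))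
  have hSd : finrank F S = i := le_antisymm hle (Nat.le_of_dvd hSpos (dvd_invariant hg hfree hSg))
  refine ⟨S, hSg, fun v hv hrad => ?_, hSd⟩
  have hRd : ∀ x ∈ S ⊓ B.orthogonal S, g x ∈ S ⊓ B.orthogonal S :=
    fun x hx => ⟨hSg x hx.1, orth_invariant hg hT hSg x hx.2⟩
  have hlt : finrank F ↥(S ⊓ B.orthogonal S) < i := hSd ▸ Submodule.finrank_lt_finrank_of_lt
    (lt_of_le_of_ne inf_le_left fun he => hune (by
      have h1 : g u ∈ B.orthogonal S := (he.ge (hSg u huS)).2
      exact CfsgLib.Classical.Symp.mem_orthogonal.1 h1 u huS))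
  have hbot : S ⊓ B.orthogonal S = ⊥ := Submodule.finrank_eq_zero.1
    (Nat.eq_zero_of_dvd_of_lt (dvd_invariant hg hfree hRd) hlt)
  exact (Submodule.mem_bot F).1 (hbot ▸ ⟨hv, CfsgLib.Classical.Symp.mem_orthogonal.2 fun w hw => by
    rw [← LinearMap.IsAlt.neg hA v w, hrad w hw, neg_zero]⟩)

/-- A nondegenerate invariant subspace of dimension `lcm 2 i`. -/
theorem exists_piece (hA : B.IsAlt) (hn : ∀ u, (∀ v, B u v = 0) → u = 0) (hr2 : r ≠ 2) (hrF : (r : F) ≠ 0)
    (hg : g ^ r = 1) (hT : ∀ u v, B (g u) (g v) = B u v) (hfree : ∀ v, g v = v → v = 0) (hV : 0 < finrank F V)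
    (hi0 : 0 < orderOf (Nat.card F : ZMod r)) :
    ∃ C : Submodule F V, (∀ v ∈ C, g v ∈ C) ∧ NDeg B C ∧
      finrank F C = Nat.lcm 2 (orderOf (Nat.card F : ZMod r)) := by
  rcases Nat.even_or_odd (orderOf (Nat.card F : ZMod r)) with he | ho
  · rw [Nat.lcm_eq_right he.two_dvd]
    exact exists_piece_self hA hn hr2 hrF hg hT hfree hV he hi0
  rw [(Nat.coprime_two_left.2 ho).lcm_eq_mul]
  obtain ⟨W, hW, hWd⟩ := exists_invariant_order g hg hfree hV
  have hiso : W ≤ B.orthogonal W := by
    have hinv : ∀ x ∈ W ⊓ B.orthogonal W, g x ∈ W ⊓ B.orthogonal W :=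
      fun x hx => ⟨hW x hx.1, orth_invariant hg hT hW x hx.2⟩
    rcases Nat.eq_zero_or_pos (finrank F ↥(W ⊓ B.orthogonal W)) with h0 | h0
    · exfalso
      have hWn : NDeg B W := fun x hx h => (Submodule.mem_bot F).1 (Submodule.finrank_eq_zero.1 h0 ▸
        ⟨hx, CfsgLib.Classical.Symp.mem_orthogonal.2 fun w hw => by rw [← LinearMap.IsAlt.neg hA x w, h w hw, neg_zero]⟩)
      have := CfsgLib.Geo.PrimeSp.even_finrank hA W hWn
      rw [hWd] at this
      exact Nat.not_even_iff_odd.2 ho this
    · have hle : finrank F W ≤ finrank F ↥(W ⊓ B.orthogonal W) :=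
        hWd ▸ Nat.le_of_dvd h0 (dvd_invariant hg hfree hinv)
      exact inf_eq_left.1 (Submodule.eq_of_le_of_finrank_le inf_le_left hle)
  obtain ⟨P, hP, hc⟩ := exists_complement hg hrF (orth_invariant hg hT hW)
  have hB : B.Nondegenerate := ⟨hn, fun v h => hn v fun w => by rw [← LinearMap.IsAlt.neg hA w v, h, neg_zero]⟩
  have h1 := Submodule.finrank_add_eq_of_isCompl hc
  have h2 := LinearMap.BilinForm.finrank_orthogonal hB W
  have h3 := Submodule.finrank_le W
  have hdisj : W ⊓ P = ⊥ := le_bot_iff.1 ((inf_le_inf hiso le_rfl).trans hc.disjoint.le_bot)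
  refine ⟨W ⊔ P, invariant_sup hW hP, fun x hx hrad => ?_, ?_⟩
  · obtain ⟨w, hw, p, hp, rfl⟩ := Submodule.mem_sup.1 hx
    have hp' : p ∈ B.orthogonal W := CfsgLib.Classical.Symp.mem_orthogonal.2 fun y hy => by
      have h := hrad y (Submodule.mem_sup_left hy)
      rw [map_add, LinearMap.add_apply, CfsgLib.Classical.Symp.mem_orthogonal.1 (hiso hy) w hw, zero_add] at h
      rw [← LinearMap.IsAlt.neg hA p y, h, neg_zero]
    obtain rfl : p = 0 := (Submodule.mem_bot F).1 (hc.disjoint.le_bot ⟨hp', hp⟩)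
    rw [add_zero] at hrad ⊢
    refine hn w fun v => ?_
    obtain ⟨a, ha, b, hb, rfl⟩ := Submodule.mem_sup.1 (hc.sup_eq_top.ge (Submodule.mem_top : v ∈ ⊤))
    rw [map_add, CfsgLib.Classical.Symp.mem_orthogonal.1 ha w hw, hrad b (Submodule.mem_sup_right hb), add_zero]
  · have h := Submodule.finrank_sup_add_finrank_inf_eq W P
    rw [hdisj, finrank_bot, add_zero] at h
    omega

end CfsgLib.Geo.ImprimPrime
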