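/-
Orthogonal decompositions whose summands are invariant under an isometry of prime order.
-/
import Cfsg.Agent.Lib.Geo.ImprimPrime.SympPiece
import Cfsg.Agent.Lib.Geo.ImprimPrime.Linear

set_option autoImplicit false
set_option maxHeartbeats 800000
set_option linter.unusedSectionVars false
set_option linter.style.haveILetI false

namespace CfsgLib.Geo.ImprimPrime

open Module CfsgLib.Geo.PrimeAct
open LinearMap (BilinForm)

variable {F : Type*} [Field F] [Finite F] {V : Type*} [AddCommGroup V] [Module F V] [FiniteDimensional F V]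
variable {B : BilinForm F V} {g : V →ₗ[F] V} {r : ℕ} [Fact r.Prime]

/-- Orthogonal for a form. -/
def Orth (B : BilinForm F V) (A C : Submodule F V) : Prop := ∀ u ∈ A, ∀ v ∈ C, B u v = 0

theorem Orth.symm (hA : B.IsAlt) {A C : Submodule F V} (h : Orth B A C) : Orth B C A :=
  fun u hu v hv => by rw [← LinearMap.IsAlt.neg hA v u, h v hv u hu, neg_zero]

theorem NDeg.sup (hA : B.IsAlt) {A C : Submodule F V} (h1 : NDeg B A) (h2 : NDeg B C) (ho : Orth B A C) :
    NDeg B (A ⊔ C) ∧ finrank F ↥(A ⊔ C) = finrank F A + finrank F C := by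
  refine ⟨fun x hx hrad => ?_, ?_⟩
  · obtain ⟨a, ha, c, hc, rfl⟩ := Submodule.mem_sup.1 hx
    rw [h1 a ha fun v hv => ?_, h2 c hc fun v hv => ?_, add_zero]
    · have h := hrad v (Submodule.mem_sup_right hv)
      rwa [map_add, LinearMap.add_apply, ho a ha v hv, zero_add] at h
    · have h := hrad v (Submodule.mem_sup_left hv)
      rwa [map_add, LinearMap.add_apply, ho.symm hA c hc v hv, add_zero] at h
  · have h := Submodule.finrank_sup_add_finrank_inf_eq A C
    rw [show A ⊓ C = ⊥ from (Submodule.eq_bot_iff _).2 fun x hx => h1 x hx.1 fun v hv =>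
      ho.symm hA x hx.2 v hv, finrank_bot, add_zero] at h
    exact h

theorem split_nondeg (hA : B.IsAlt) (hB : B.Nondegenerate) {R R₁ : Submodule F V} (hR : NDeg B R) (h1 : NDeg B R₁)
    (hle : R₁ ≤ R) :
    R₁ ⊔ R ⊓ B.orthogonal R₁ = R ∧ NDeg B (R ⊓ B.orthogonal R₁) ∧ Orth B R₁ (R ⊓ B.orthogonal R₁) ∧
      finrank F R₁ + finrank F ↥(R ⊓ B.orthogonal R₁) = finrank F R := by
  obtain ⟨hc, -⟩ := CfsgLib.Classical.Symp.nondeg_orthogonal hA hB h1
  have hsup : R₁ ⊔ R ⊓ B.orthogonal R₁ = R := by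
    rw [inf_comm, ← sup_inf_assoc_of_le _ hle, hc.sup_eq_top, top_inf_eq]
  have ho : Orth B R₁ (R ⊓ B.orthogonal R₁) := fun u hu v hv =>
    CfsgLib.Classical.Symp.mem_orthogonal.1 hv.2 u hu
  refine ⟨hsup, fun x hx hrad => hR x hx.1 fun v hv => ?_, ho, ?_⟩
  · obtain ⟨a, ha, c, hc', rfl⟩ := Submodule.mem_sup.1 (hsup.ge hv)
    rw [map_add, ho.symm hA x hx a ha, zero_add, hrad c hc']
  · have h := Submodule.finrank_sup_add_finrank_inf_eq R₁ (R ⊓ B.orthogonal R₁)
    rw [hsup, show R₁ ⊓ (R ⊓ B.orthogonal R₁) = ⊥ from le_bot_iff.1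
      ((inf_le_inf le_rfl inf_le_right).trans hc.disjoint.le_bot), finrank_bot, add_zero] at h
    omega

/-- Several pieces from one. -/
theorem exists_multiple (hA : B.IsAlt) (hB : B.Nondegenerate) (hg : g ^ r = 1)
    (hT : ∀ u v, B (g u) (g v) = B u v) {R : Submodule F V} (hR : ∀ v ∈ R, g v ∈ R) (hRn : NDeg B R) {e : ℕ}
    (he : 0 < e)
    (hpiece : ∀ R' ≤ R, (∀ v ∈ R', g v ∈ R') → NDeg B R' → 0 < finrank F R' →
      ∃ C ≤ R', (∀ v ∈ C, g v ∈ C) ∧ NDeg B C ∧ finrank F C = e) :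
    ∀ b, b * e ≤ finrank F R → ∃ R₁ ≤ R, (∀ v ∈ R₁, g v ∈ R₁) ∧ NDeg B R₁ ∧ finrank F R₁ = b * e := by
  intro b
  induction b with
  | zero =>
    exact fun _ => ⟨⊥, bot_le, fun v hv => by rw [(Submodule.mem_bot F).1 hv, map_zero]; exact zero_mem _,
      fun v hv _ => (Submodule.mem_bot F).1 hv, by rw [finrank_bot, zero_mul]⟩
  | succ b ih =>
    intro hb
    rw [Nat.succ_mul] at hb
    obtain ⟨R₁, hle, h1, h1n, h1d⟩ := ih (by omega)
    obtain ⟨-, h2n, ho, hd⟩ := split_nondeg hA hB hRn h1n hle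
    obtain ⟨C, hC, hCi, hCn, hCd⟩ := hpiece _ inf_le_left
      (fun v hv => ⟨hR v hv.1, orth_invariant hg hT h1 v hv.2⟩) h2n (by omega)
    obtain ⟨hn, hdim⟩ := h1n.sup hA hCn (fun u hu v hv => ho u hu v (hC hv))
    exact ⟨R₁ ⊔ C, sup_le hle (hC.trans inf_le_left), invariant_sup h1 hCi, hn, by rw [hdim, h1d, hCd, Nat.succ_mul]⟩

theorem exists_piece_rest (hA : B.IsAlt) (hr2 : r ≠ 2) (hrF : (r : F) ≠ 0) (hg : g ^ r = 1)
    (hT : ∀ u v, B (g u) (g v) = B u v) (hi0 : 0 < orderOf (Nat.card F : ZMod r)) {R : Submodule F V}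
    (hR : ∀ v ∈ R, g v ∈ R) (hRn : NDeg B R) (hRr : R ≤ restSp r g) (hpos : 0 < finrank F R) :
    ∃ C ≤ R, (∀ v ∈ C, g v ∈ C) ∧ NDeg B C ∧ finrank F C = Nat.lcm 2 (orderOf (Nat.card F : ZMod r)) := by
  obtain ⟨C, hC, hCn, hCd⟩ := exists_piece (B := B.restrict R) (g := g.restrict hR) (r := r)
    (CfsgLib.Classical.Symp.restrict_isAlt hA R) (fun u h => Subtype.ext (hRn u u.2 fun v hv => h ⟨v, hv⟩)) hr2 hrF
    (restrict_pow_eq_one g hg hR) (fun u v => hT u v)
    (fun v hv => Subtype.ext (free_of_le_rest hrF (hRr v.2) (congrArg Subtype.val hv))) hpos hi0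
  refine ⟨C.map R.subtype, Submodule.map_subtype_le _ _, ?_, ?_, by rw [Submodule.finrank_map_subtype_eq, hCd]⟩
  · rintro _ ⟨v, hv, rfl⟩
    exact ⟨_, hC v hv, rfl⟩
  · rintro _ ⟨v, hv, rfl⟩ h
    rw [hCn v hv fun w hw => h _ (Submodule.mem_map_of_mem hw), map_zero]

theorem exists_piece_fix (hA : B.IsAlt) {R : Submodule F V} (hRn : NDeg B R) (hRf : R ≤ fixSp g)
    (hpos : 0 < finrank F R) : ∃ C ≤ R, (∀ v ∈ C, g v ∈ C) ∧ NDeg B C ∧ finrank F C = 2 := by
  obtain ⟨u, hu, hu0⟩ := Submodule.exists_mem_ne_zero_of_ne_bot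
    (show R ≠ ⊥ from fun h => by rw [h, finrank_bot] at hpos; omega)
  obtain ⟨v, hv, huv⟩ := CfsgLib.Classical.Symp.exists_partner hRn hu hu0
  have hle : Submodule.span F ({u, v} : Set V) ≤ R :=
    Submodule.span_le.2 (Set.insert_subset hu (Set.singleton_subset_iff.2 hv))
  refine ⟨_, hle, invariant_of_le_fix (hle.trans hRf), CfsgLib.Classical.Symp.nondeg_pair hA huv, ?_⟩
  have h := finrank_span_eq_card (CfsgLib.Classical.Symp.linearIndependent_pair_of_one hA huv)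
  rwa [Matrix.range_cons_cons_empty, Fintype.card_fin] at h

/-- Summands that are invariant one by one. -/
theorem exists_orth_family (hA : B.IsAlt) (hB : B.Nondegenerate) (hr2 : r ≠ 2) (hrF : (r : F) ≠ 0) (hg : g ^ r = 1)
    (hT : ∀ u v, B (g u) (g v) = B u v) (hi0 : 0 < orderOf (Nat.card F : ZMod r)) {a A : ℕ} (hae : Even a)
    (hAa : A * Nat.lcm 2 (orderOf (Nat.card F : ZMod r)) ≤ a) (s : ℕ) :
    ∀ {R Fx : Submodule F V}, (∀ v ∈ R, g v ∈ R) → R ≤ restSp r g → Fx ≤ fixSp g → NDeg B R → NDeg B Fx →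
      ∀ j, finrank F R = j * Nat.lcm 2 (orderOf (Nat.card F : ZMod r)) → j ≤ s * A →
        finrank F R + finrank F Fx = s * a →
      ∃ D : Fin s → Submodule F V, (∀ i, D i ≤ R ⊔ Fx ∧ finrank F (D i) = a ∧ (∀ v ∈ D i, g v ∈ D i) ∧ NDeg B (D i)) ∧
        ∀ i k, i ≠ k → Orth B (D i) (D k) := by
  set c := Nat.lcm 2 (orderOf (Nat.card F : ZMod r))
  have hce : Even c := even_iff_two_dvd.2 (Nat.dvd_lcm_left 2 _)
  have hc0 : 0 < c := Nat.lcm_pos two_pos hi0
  induction s with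
  | zero => exact fun _ _ _ _ _ _ _ _ _ => ⟨fun i => i.elim0, fun i => i.elim0, fun i => i.elim0⟩
  | succ s ih =>
    intro R Fx hR hRr hFx hRn hFn j hj hjA hsum
    rw [Nat.add_mul, one_mul] at hsum hjA
    obtain ⟨b, hb⟩ : ∃ b, b = min A j := ⟨_, rfl⟩
    have hbc : b * c ≤ a := (Nat.mul_le_mul_right _ (by omega : b ≤ A)).trans hAa
    have hfix : a - b * c ≤ finrank F Fx := by
      rcases Nat.lt_or_ge j A with hjA' | hjA'
      · have : b * c = j * c := by rw [hb, Nat.min_eq_right hjA'.le]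
        omega
      · have h3 : j * c ≤ s * (A * c) + A * c := by
          rw [← mul_assoc, ← Nat.add_mul]
          exact Nat.mul_le_mul_right _ hjA
        have h4 : s * (A * c) ≤ s * a := Nat.mul_le_mul_left _ hAa
        have : b * c = A * c := by rw [hb, Nat.min_eq_left hjA']
        omega
    obtain ⟨R₁, hl1, h1, h1n, hd1⟩ := exists_multiple hA hB hg hT hR hRn hc0
      (fun R' hle hi hn hp => exists_piece_rest hA hr2 hrF hg hT hi0 hi hn (hle.trans hRr) hp) b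
      (by rw [hj]; exact Nat.mul_le_mul_right _ (by omega))
    obtain ⟨h, hh⟩ : Even (a - b * c) := (Nat.even_sub hbc).2 (iff_of_true hae (hce.mul_left b))
    obtain ⟨F₁, hlf, -, hf1n, hfd1⟩ := exists_multiple hA hB hg hT (invariant_of_le_fix hFx) hFn two_pos
      (fun R' hle _ hn hp => exists_piece_fix hA hn (hle.trans hFx) hp) h (by omega)
    obtain ⟨hsR, h2n, hoR, hdR⟩ := split_nondeg hA hB hRn h1n hl1
    obtain ⟨hsF, hf2n, hoF, hdF⟩ := split_nondeg hA hB hFn hf1n hlf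
    have hcross : ∀ {u v : V}, u ∈ R → v ∈ Fx → B u v = 0 ∧ B v u = 0 := fun hu hv => by
      have h := CfsgLib.Geo.PrimeSp.fix_rest_orth hrF hT (mem_fixSp.1 (hFx hv)) (hRr hu)
      exact ⟨h.2, h.1⟩
    obtain ⟨hn1, hdim1⟩ := h1n.sup hA hf1n fun u hu v hv => (hcross (hl1 hu) (hlf hv)).1
    obtain ⟨D, hD, hDo⟩ := ih (R := R ⊓ B.orthogonal R₁) (Fx := Fx ⊓ B.orthogonal F₁)
      (fun v hv => ⟨hR v hv.1, orth_invariant hg hT h1 v hv.2⟩) (inf_le_left.trans hRr) (inf_le_left.trans hFx)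
      h2n hf2n (j - b) (by rw [Nat.sub_mul]; omega) (by omega) (by omega)
    have hrest : Orth B (R₁ ⊔ F₁) (R ⊓ B.orthogonal R₁ ⊔ Fx ⊓ B.orthogonal F₁) := by
      intro u hu v hv
      obtain ⟨x, hx, y, hy, rfl⟩ := Submodule.mem_sup.1 hu
      obtain ⟨x', hx', y', hy', rfl⟩ := Submodule.mem_sup.1 hv
      rw [map_add B, LinearMap.add_apply, map_add, map_add, hoR x hx x' hx', hoF y hy y' hy',
        (hcross (hl1 hx) hy'.1).1, (hcross hx'.1 (hlf hy)).2]
      simp
    refine ⟨Fin.cons (R₁ ⊔ F₁) D, fun i => ?_, fun i k hik => ?_⟩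
    · induction i using Fin.cases with
      | zero =>
        rw [Fin.cons_zero]
        exact ⟨sup_le_sup hl1 hlf, by omega,
          invariant_sup h1 (invariant_of_le_fix (hlf.trans hFx)), hn1⟩
      | succ i =>
        rw [Fin.cons_succ]
        exact ⟨(hD i).1.trans (sup_le_sup inf_le_left inf_le_left), (hD i).2⟩
    · induction i using Fin.cases with
      | zero =>
        induction k using Fin.cases with
        | zero => exact absurd rfl hik
        | succ k => rw [Fin.cons_zero, Fin.cons_succ]; exact fun u hu v hv => hrest u hu v ((hD k).1 hv)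
      | succ i =>
        induction k using Fin.cases with
        | zero =>
          rw [Fin.cons_zero, Fin.cons_succ]
          exact Orth.symm hA fun u hu v hv => hrest u hu v ((hD i).1 hv)
        | succ k => rw [Fin.cons_succ, Fin.cons_succ]; exact hDo i k fun h => hik (by rw [h])

theorem indep_of_orth (hA : B.IsAlt) {ι : Type*} {D : ι → Submodule F V} (hn : ∀ i, NDeg B (D i))
    (ho : ∀ i k, i ≠ k → Orth B (D i) (D k)) : iSupIndep D := by
  intro i
  rw [Submodule.disjoint_def]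
  intro x hx hx'
  refine hn i x hx fun v hv => ?_
  have h : ⨆ k, ⨆ (_ : k ≠ i), D k ≤ LinearMap.ker (B.flip v) :=
    iSup₂_le fun k hk y hy => LinearMap.mem_ker.2 (ho k i hk y hy v hv)
  exact LinearMap.mem_ker.1 (h hx')

theorem iSup_eq_top_of_card {t a : ℕ} {D : Fin t → Submodule F V} (hind : iSupIndep D)
    (hd : ∀ i, finrank F (D i) = a) (hV : finrank F V = t * a) : iSup D = ⊤ := by
  classical
  have h := LinearMap.finrank_range_of_inj (f := DirectSum.coeLinearMap D) hind.dfinsupp_lsum_injective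
  rw [Module.finrank_directSum, DirectSum.range_coeLinearMap] at h
  refine Submodule.eq_top_of_finrank_eq ?_
  rw [h, hV, Finset.sum_congr rfl fun i _ => hd i, Finset.sum_const, Finset.card_univ, Fintype.card_fin, smul_eq_mul]

theorem fix_nondeg (hn : ∀ u, (∀ v, B u v = 0) → u = 0) (hrF : (r : F) ≠ 0) (hg : g ^ r = 1)
    (hT : ∀ u v, B (g u) (g v) = B u v) : NDeg B (fixSp g) := fun u hu h => hn u fun v => by
  obtain ⟨x, y, hx, hy, rfl⟩ := CfsgLib.Geo.PrimeSp.exists_split hg hrF v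
  rw [map_add, h x (mem_fixSp.2 hx), (CfsgLib.Geo.PrimeSp.fix_rest_orth hrF hT (mem_fixSp.1 hu) hy).1, add_zero]

theorem lcm_dvd_inf_rest (hA : B.IsAlt) (hrF : (r : F) ≠ 0) (hg : g ^ r = 1) (hT : ∀ u v, B (g u) (g v) = B u v)
    {W : Submodule F V} (hW : ∀ v ∈ W, g v ∈ W) (hWn : NDeg B W) :
    Nat.lcm 2 (orderOf (Nat.card F : ZMod r)) ∣ finrank F ↥(W ⊓ restSp r g) := by
  refine Nat.lcm_dvd (even_iff_two_dvd.1 (CfsgLib.Geo.PrimeSp.even_finrank hA _ fun u hu h => ?_))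
    (orderOf_dvd_finrank_inf_rest hg hrF W hW)
  refine hWn u hu.1 fun v hv => ?_
  obtain ⟨a, ha⟩ : ∃ a, a = (r : F)⁻¹ • orbitSum r g v := ⟨_, rfl⟩
  have hmem : ∀ k : ℕ, (g ^ k) v ∈ W := fun k => by
    induction k with
    | zero => exact hv
    | succ k ih => rw [pow_succ', Module.End.mul_apply]; exact hW _ ih
  have haW : a ∈ W := ha ▸ W.smul_mem _ (by rw [orbitSum, LinearMap.sum_apply]; exact W.sum_mem fun k _ => hmem k)
  have hga : g a = a := by rw [ha, map_smul, apply_orbitSum hg]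
  have hb : v - a ∈ restSp r g := by
    show orbitSum r g _ = 0
    rw [map_sub, orbitSum_fixed hga, ha, smul_inv_smul₀ hrF, sub_self]
  have := h (v - a) ⟨W.sub_mem hv haW, hb⟩
  rwa [map_sub, (CfsgLib.Geo.PrimeSp.fix_rest_orth hrF hT hga hu.2).2, sub_zero] at this

/-- A stable decomposition with invariant summands. -/
theorem exists_stable_symp (hA : B.IsAlt) (hB : B.Nondegenerate) (hr2 : r ≠ 2) (hrF : (r : F) ≠ 0) (hg : g ^ r = 1)
    (hT : ∀ u v, B (g u) (g v) = B u v) (hi0 : 0 < orderOf (Nat.card F : ZMod r)) {a t A : ℕ} (hae : Even a)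
    (hAa : A * Nat.lcm 2 (orderOf (Nat.card F : ZMod r)) ≤ a) (hV : finrank F V = t * a)
    (hj : ∀ j, finrank F (restSp r g) = j * Nat.lcm 2 (orderOf (Nat.card F : ZMod r)) → j ≤ t * A) :
    ∃ D : Fin t → Submodule F V, (∀ i, finrank F (D i) = a) ∧ iSupIndep D ∧ iSup D = ⊤ ∧ (∀ i, NDeg B (D i)) ∧
      (∀ i k, i ≠ k → Orth B (D i) (D k)) ∧ ∀ i, (D i).map g = D i := by
  obtain ⟨j, hj'⟩ := lcm_dvd_inf_rest hA hrF hg hT (W := ⊤) (fun _ _ => Submodule.mem_top)
    (CfsgLib.Classical.Symp.nondeg_top hB)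
  rw [top_inf_eq, mul_comm] at hj'
  obtain ⟨D, hD, ho⟩ := exists_orth_family hA hB hr2 hrF hg hT hi0 hae hAa t (restSp_invariant hg) le_rfl le_rfl
    (CfsgLib.Geo.PrimeSp.rest_nondeg hg hrF hT hB.1) (fix_nondeg hB.1 hrF hg hT) j hj' (hj j hj')
    ((sup_fix_rest hg hrF).1.trans hV)
  have hind := indep_of_orth hA (fun i => (hD i).2.2.2) ho
  refine ⟨D, fun i => (hD i).2.1, hind, iSup_eq_top_of_card hind (fun i => (hD i).2.1) hV, fun i => (hD i).2.2.2, ho,
    fun i => Submodule.eq_of_le_of_finrank_eq (by rintro _ ⟨v, hv, rfl⟩; exact (hD i).2.2.1 v hv) ?_⟩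
  exact (LinearEquiv.finrank_eq (Submodule.equivMapOfInjective g (injective_of_pow hg) (D i))).symm

end CfsgLib.Geo.ImprimPrime
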