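/-
Isometries of prime order and orthogonal decompositions into equidimensional nondegenerate summands.
-/
import Cfsg.Prelude.Def_ClassicalGeometry
import Cfsg.Agent.Lib.Geo.ImprimPrime.SympDec

set_option autoImplicit false
set_option maxHeartbeats 800000
set_option linter.unusedSectionVars false
set_option linter.style.haveILetI false

namespace CfsgLib.Geo.ImprimPrime

open Module CfsgLib.Geo.PrimeAct
open scoped Pointwise
open LinearMap (BilinForm)
open CfsgLib.Classical.Symp (sympBil sympBil_apply sympBil_isAlt sympBil_nondegenerate finrank_sympSpace)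

variable {F : Type*} [Field F] {d : ℕ}

/-- The decompositions of the statement. -/
abbrev OrthDecomp (d : ℕ) (F : Type*) [Field F] (a : ℕ) {t : ℕ} (D : Fin t → Submodule F (Fin d ⊕ Fin d → F)) : Prop :=
  Cfsg.Geo.IsMDecomposition a D ∧ (∀ j, ∀ u ∈ D j, u ≠ 0 → ∃ v ∈ D j, Cfsg.sympForm d F u v ≠ 0) ∧
    (∀ j j', j ≠ j' → ∀ u ∈ D j, ∀ v ∈ D j', Cfsg.sympForm d F u v = 0)

theorem orthDecomp_iff {a t : ℕ} {D : Fin t → Submodule F (Fin d ⊕ Fin d → F)} :
    OrthDecomp d F a D ↔ Cfsg.Geo.IsMDecomposition a D ∧ (∀ j, NDeg (sympBil d F) (D j)) ∧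
      ∀ j j', j ≠ j' → Orth (sympBil d F) (D j) (D j') := by
  simp only [OrthDecomp, Orth, sympBil_apply]
  refine and_congr_right fun _ => and_congr_left fun _ => forall_congr' fun j => ?_
  refine ⟨fun h u hu hrad => ?_, fun h u hu hu0 => ?_⟩
  · by_contra hu0
    obtain ⟨v, hv, hne⟩ := h u hu hu0
    exact hne ((sympBil_apply d F u v).symm.trans (hrad v hv))
  · by_contra! hall
    exact hu0 (h u hu fun v hv => (sympBil_apply d F u v).trans (hall v hv))

/-- The isometries. -/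
def isomGroup {V : Type*} [AddCommGroup V] [Module F V] (B : BilinForm F V) : Subgroup (V ≃ₗ[F] V) where
  carrier := {e | ∀ u v, B (e u) (e v) = B u v}
  mul_mem' {e f} he hf u v := by rw [LinearEquiv.mul_apply, LinearEquiv.mul_apply, he, hf]
  one_mem' _ _ := rfl
  inv_mem' {e} he u v := by
    have h := he (e⁻¹ u) (e⁻¹ v)
    rw [← LinearEquiv.mul_apply, ← LinearEquiv.mul_apply, mul_inv_cancel] at h
    exact h.symm

theorem linearEquiv_pow_toLinearMap {V : Type*} [AddCommGroup V] [Module F V] (e : V ≃ₗ[F] V) (k : ℕ) :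
    (e ^ k).toLinearMap = e.toLinearMap ^ k := by
  induction k with
  | zero => rfl
  | succ k ih => rw [pow_succ', pow_succ' e.toLinearMap, ← ih]; rfl

variable [Finite F] {r : ℕ} [Fact r.Prime]

theorem symp_ord_le {a t : ℕ} (hrF : (r : F) ≠ 0) (hr2 : r ≠ 2) (hi0 : 0 < orderOf (Nat.card F : ZMod r))
    (hat : 2 * d = a * t) (hae : Even a) (ha : 2 ≤ a) (ht : 2 ≤ t)
    (hΩ : r ∣ Nat.card {D : Fin t → Submodule F (Fin d ⊕ Fin d → F) // OrthDecomp d F a D} / Nat.factorial t) :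
    Nat.lcm 2 (orderOf (Nat.card F : ZMod r)) ≤ 2 * d := by
  classical
  haveI : Finite ((Fin d ⊕ Fin d → F) ≃ₗ[F] (Fin d ⊕ Fin d → F)) := finite_linearEquiv
  haveI : Finite (Submodule F (Fin d ⊕ Fin d → F)) :=
    Finite.of_injective (fun W => (W : Set (Fin d ⊕ Fin d → F))) SetLike.coe_injective
  set B := sympBil d F
  have hA : B.IsAlt := sympBil_isAlt d F
  have hB : B.Nondegenerate := sympBil_nondegenerate d F
  have hne : ∃ D : Fin t → Submodule F (Fin d ⊕ Fin d → F), OrthDecomp d F a D := by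
    obtain ⟨D, h1, h2, h3, h4, h5, -⟩ := exists_stable_symp (g := (1 : (Fin d ⊕ Fin d → F) →ₗ[F] (Fin d ⊕ Fin d → F)))
      (A := 0) (t := t) hA hB hr2 hrF (one_pow r) (fun _ _ => rfl) hi0 hae (by omega)
      (by rw [finrank_sympSpace]; rw [hat, mul_comm]) (fun j hj => by
        have h0 : restSp r (1 : (Fin d ⊕ Fin d → F) →ₗ[F] (Fin d ⊕ Fin d → F)) = ⊥ :=
          (Submodule.eq_bot_iff _).2 fun v hv => free_of_le_rest hrF hv rfl
        rw [h0, finrank_bot] at hj
        rcases Nat.mul_eq_zero.1 hj.symm with h | h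
        · omega
        · exact absurd h (Nat.lcm_pos two_pos hi0).ne')
    exact ⟨D, orthDecomp_iff.2 ⟨⟨ht, by omega, h1, h2, h3⟩, h4, h5⟩⟩
  have hr : r ∣ Nat.card (isomGroup B) := by
    refine dvd_card_group (F := F) (V := Fin d ⊕ Fin d → F) (OrthDecomp d F a) ?_ ?_ hne ?_ ?_ hΩ
    · intro D σ ⟨h, hn, ho⟩
      exact ⟨⟨h.two_le, h.pos, fun i => h.finrank_eq _, h.indep.comp σ.injective,
        (Equiv.iSup_comp σ).trans h.iSup_eq_top⟩, fun j => hn _, fun j j' hne => ho _ _ fun e => hne (σ.injective e)⟩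
    · exact fun D h => h.1.indep.injective fun i hi => by
        have := h.1.finrank_eq i; rw [hi, finrank_bot] at this; omega
    · intro D g h
      rw [orthDecomp_iff] at h ⊢
      obtain ⟨h, hn, ho⟩ := h
      have hs : ∀ i, (g • D) i = (D i).map (g : (Fin d ⊕ Fin d → F) ≃ₗ[F] (Fin d ⊕ Fin d → F)).toLinearMap := fun i => rfl
      refine ⟨⟨h.two_le, h.pos, fun i => ?_, ?_, ?_⟩, fun i => ?_, fun i i' hne => ?_⟩
      · erw [hs, LinearEquiv.finrank_map_eq, h.finrank_eq]
      · exact h.indep.map_orderIso (Submodule.orderIsoMapComap g.1)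
      · have h2 : (iSup D).map g.1.toLinearMap = ⨆ i, (D i).map g.1.toLinearMap := Submodule.map_iSup _ _
        rw [h.iSup_eq_top, Submodule.map_top, LinearEquiv.range] at h2
        exact h2.symm
      · erw [hs]
        rintro _ ⟨u, hu, rfl⟩ hrad
        rw [hn i u hu fun v hv => (g.2 u v).symm.trans (hrad _ (Submodule.mem_map_of_mem hv)), map_zero]
      · erw [hs, hs]
        rintro _ ⟨u, hu, rfl⟩ _ ⟨v, hv, rfl⟩
        exact (g.2 u v).trans (ho i i' hne u hu v hv)
    · intro D D' h h'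
      rw [orthDecomp_iff] at h h'
      obtain ⟨h, hn, ho⟩ := h
      obtain ⟨h', hn', ho'⟩ := h'
      choose e he using fun i => CfsgLib.Classical.Symp.exists_isometry (B := B.restrict (D i)) (B' := B.restrict (D' i))
        (CfsgLib.Classical.Symp.restrict_isAlt hA _) (CfsgLib.Classical.Symp.restrict_nondegenerate hA (hn i))
        (CfsgLib.Classical.Symp.restrict_isAlt hA _) (CfsgLib.Classical.Symp.restrict_nondegenerate hA (hn' i))
        ((h.finrank_eq i).trans (h'.finrank_eq i).symm)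
      obtain ⟨E, hE⟩ := exists_glue h.indep h'.indep h.iSup_eq_top h'.iSup_eq_top e
      have hiso : E ∈ isomGroup B := by
        intro u v
        have hu : u ∈ iSup D := h.iSup_eq_top ▸ Submodule.mem_top
        have hv : v ∈ iSup D := h.iSup_eq_top ▸ Submodule.mem_top
        induction hu using Submodule.iSup_induction' with
        | mem i x hx =>
          induction hv using Submodule.iSup_induction' with
          | mem k y hy =>
            rw [hE i ⟨x, hx⟩, hE k ⟨y, hy⟩]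
            rcases eq_or_ne i k with rfl | hik
            · exact he i ⟨x, hx⟩ ⟨y, hy⟩
            · rw [ho i k hik x hx y hy, ho' i k hik _ (e i _).2 _ (e k _).2]
          | zero => simp
          | add y z _ _ hy hz => simp [hy, hz]
        | zero => simp
        | add x z _ _ hx hz => simp [hx, hz]
      exact ⟨⟨E, hiso⟩, funext fun i => (smul_eq_map E (D i)).trans (map_eq_of_glue _ _ (hE i))⟩
  obtain ⟨⟨e, heiso⟩, he⟩ := exists_prime_orderOf_dvd_card' r hr
  have hf : (e.toLinearMap) ^ r = 1 := by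
    have h := congrArg (fun x : isomGroup B => x.1.toLinearMap) (pow_orderOf_eq_one (⟨e, heiso⟩ : isomGroup B))
    rw [he] at h
    simp only [SubmonoidClass.coe_pow, OneMemClass.coe_one] at h
    rw [linearEquiv_pow_toLinearMap] at h
    exact h
  have hd' := lcm_dvd_inf_rest hA hrF hf heiso (W := ⊤) (fun _ _ => Submodule.mem_top)
    (CfsgLib.Classical.Symp.nondeg_top hB)
  rw [top_inf_eq] at hd'
  have hsum := (sup_fix_rest hf hrF).1
  rw [finrank_sympSpace] at hsum
  have hpos : 0 < finrank F (restSp r e.toLinearMap) := by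
    by_contra h0
    have htop : fixSp e.toLinearMap = ⊤ := Submodule.eq_top_of_finrank_eq (by rw [finrank_sympSpace]; omega)
    have h1 : (⟨e, heiso⟩ : isomGroup B) = 1 :=
      Subtype.ext (LinearEquiv.ext fun v => mem_fixSp.1 (htop ▸ Submodule.mem_top : v ∈ fixSp e.toLinearMap))
    rw [h1, orderOf_one] at he
    exact (Fact.out : r.Prime).ne_one he.symm
  exact (Nat.le_of_dvd hpos hd').trans (by omega)

/-- The element with `k` free blocks. -/
theorem exists_symp_witness (hrF : (r : F) ≠ 0) (hi0 : 0 < orderOf (Nat.card F : ZMod r)) {k : ℕ}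
    (hk : k * Nat.lcm 2 (orderOf (Nat.card F : ZMod r)) ≤ 2 * d) :
    ∃ T : (Fin d ⊕ Fin d → F) →ₗ[F] (Fin d ⊕ Fin d → F), T ^ r = 1 ∧
      (∀ u v, sympBil d F (T u) (T v) = sympBil d F u v) ∧
      finrank F (fixSp T) + k * Nat.lcm 2 (orderOf (Nat.card F : ZMod r)) = 2 * d := by
  classical
  haveI := Fintype.ofFinite F
  set c := Nat.lcm 2 (orderOf (Nat.card F : ZMod r)) with hc
  obtain ⟨j, hj⟩ : ∃ j, c = 2 * j := Nat.dvd_lcm_left 2 _
  obtain ⟨x, hx, hxr, hxfix, -⟩ := CfsgLib.Geo.PrimeSp.exists_element (d := j) hrF hi0 (by omega)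
  set Y := CfsgLib.Geo.PrimeSp.toEnd x
  have hY : Y ^ r = 1 := by rw [← CfsgLib.Geo.PrimeSp.toEnd_pow, hxr, CfsgLib.Geo.PrimeSp.toEnd_one]
  have hY0 : fixSp Y = ⊥ := Submodule.finrank_eq_zero.1 (by omega)
  obtain ⟨m, hm⟩ : ∃ m, d = k * j + m :=
    Nat.exists_eq_add_of_le (by have : k * c = 2 * (k * j) := by rw [hj]; ring
                                omega)
  let B' : BilinForm F ((Fin k → (Fin j ⊕ Fin j → F)) × (Fin m ⊕ Fin m → F)) := LinearMap.mk₂ F
    (fun u v => ∑ i, sympBil j F (u.1 i) (v.1 i) + sympBil m F u.2 v.2)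
    (fun u u' v => by simp [Finset.sum_add_distrib]; abel)
    (fun a u v => by simp [Finset.mul_sum, mul_add])
    (fun u v v' => by simp [Finset.sum_add_distrib]; abel)
    (fun a u v => by simp [Finset.mul_sum, mul_add])
  have hB'a : ∀ u v : ((Fin k → (Fin j ⊕ Fin j → F)) × (Fin m ⊕ Fin m → F)), B' u v = ∑ i, sympBil j F (u.1 i) (v.1 i) + sympBil m F u.2 v.2 := fun u v => rfl
  have hA' : B'.IsAlt := fun u => by
    rw [hB'a, sympBil_isAlt m F u.2, add_zero]
    exact Finset.sum_eq_zero fun i _ => sympBil_isAlt j F (u.1 i)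
  have hn1 : ∀ u, (∀ v, B' u v = 0) → u = 0 := fun u h => by
    refine Prod.ext (funext fun i => (sympBil_nondegenerate j F).1 (u.1 i) fun w => ?_)
      ((sympBil_nondegenerate m F).1 u.2 fun w => ?_)
    · have := h (Pi.single i w, 0)
      rw [hB'a, map_zero, add_zero, Finset.sum_eq_single i (fun l _ hl => by simp [hl]) (by simp)] at this
      simpa using this
    · have := h (0, w)
      simpa [hB'a] using this
  have hB' : B'.Nondegenerate := ⟨hn1, fun v h => hn1 v fun w => by rw [← LinearMap.IsAlt.neg hA' w v, h, neg_zero]⟩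
  obtain ⟨e, he⟩ := CfsgLib.Classical.Symp.exists_isometry hA' hB' (sympBil_isAlt d F) (sympBil_nondegenerate d F)
    (by simp only [Module.finrank_prod, Module.finrank_pi_fintype, finrank_sympSpace, Finset.sum_const,
          Finset.card_univ, Fintype.card_sum, Fintype.card_fin, Module.finrank_self, smul_eq_mul, mul_one]
        rw [hm]; ring)
  let h : ((Fin k → (Fin j ⊕ Fin j → F)) × (Fin m ⊕ Fin m → F)) →ₗ[F] ((Fin k → (Fin j ⊕ Fin j → F)) × (Fin m ⊕ Fin m → F)) := (LinearMap.pi fun i => Y.comp (LinearMap.proj i)).prodMap LinearMap.id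
  have hh : ∀ (l : ℕ) (v : ((Fin k → (Fin j ⊕ Fin j → F)) × (Fin m ⊕ Fin m → F))), (h ^ l) v = (fun i => (Y ^ l) (v.1 i), v.2) := fun l => by
    induction l with
    | zero => exact fun _ => rfl
    | succ l ih => intro v; rw [pow_succ', Module.End.mul_apply, ih, pow_succ']; rfl
  refine ⟨e.toLinearMap ∘ₗ h ∘ₗ e.symm.toLinearMap, LinearMap.ext fun v => ?_, fun u v => ?_, ?_⟩
  · obtain ⟨v, rfl⟩ := e.surjective v
    rw [conj_pow_apply, hh, hY]
    rfl
  · obtain ⟨u, rfl⟩ := e.surjective u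
    obtain ⟨v, rfl⟩ := e.surjective v
    simp only [LinearMap.comp_apply, LinearEquiv.coe_coe, LinearEquiv.symm_apply_apply, he, hB'a]
    refine congrArg₂ (· + ·) (Finset.sum_congr rfl fun i _ => CfsgLib.Geo.PrimeSp.mem_sp hx _ _) rfl
  · have hfix : fixSp (e.toLinearMap ∘ₗ h ∘ₗ e.symm.toLinearMap) =
        LinearMap.range (e.toLinearMap ∘ₗ LinearMap.inr F (Fin k → (Fin j ⊕ Fin j → F)) (Fin m ⊕ Fin m → F)) := by
      ext v
      obtain ⟨v, rfl⟩ := e.surjective v
      rw [mem_fixSp]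
      simp only [LinearMap.mem_range, LinearMap.comp_apply, LinearEquiv.coe_coe, LinearEquiv.symm_apply_apply,
        EmbeddingLike.apply_eq_iff_eq]
      constructor
      · intro hv
        refine ⟨v.2, Prod.ext (funext fun i => ?_) rfl⟩
        exact ((Submodule.mem_bot F).1 (hY0 ▸ mem_fixSp.2 (congrFun (congrArg Prod.fst hv) i))).symm
      · rintro ⟨y, rfl⟩
        exact Prod.ext (funext fun i => map_zero Y) rfl
    have hinj : Function.Injective
        (e.toLinearMap ∘ₗ LinearMap.inr F (Fin k → (Fin j ⊕ Fin j → F)) (Fin m ⊕ Fin m → F)) :=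
      e.injective.comp LinearMap.inr_injective
    rw [hfix, LinearMap.finrank_range_of_inj hinj, finrank_sympSpace, hm, hj]
    ring

theorem symp_positive {a t : ℕ} (hrF : (r : F) ≠ 0) (hr2 : r ≠ 2) (hi0 : 0 < orderOf (Nat.card F : ZMod r))
    (hat : 2 * d = a * t) (hae : Even a) (ha : 2 ≤ a) (ht : 2 ≤ t)
    (hcrit : Nat.lcm 2 (orderOf (Nat.card F : ZMod r)) ≤ a ∧
      (2 * d) % Nat.lcm 2 (orderOf (Nat.card F : ZMod r)) = t * (a % Nat.lcm 2 (orderOf (Nat.card F : ZMod r))))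
    (T : (Fin d ⊕ Fin d → F) →ₗ[F] (Fin d ⊕ Fin d → F)) (hT : ∀ u v, sympBil d F (T u) (T v) = sympBil d F u v)
    {z : F} (hz2 : z * z = 1) (hTr : T ^ r = z • (1 : (Fin d ⊕ Fin d → F) →ₗ[F] (Fin d ⊕ Fin d → F))) :
    ∃ D : Fin t → Submodule F (Fin d ⊕ Fin d → F), OrthDecomp d F a D ∧
      ∃ σ : Equiv.Perm (Fin t), ∀ j, (D j).map T = D (σ j) := by
  set c := Nat.lcm 2 (orderOf (Nat.card F : ZMod r)) with hc
  have hc0 : 0 < c := Nat.lcm_pos two_pos hi0
  set g := z • T with hgdef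
  obtain ⟨l, hl⟩ := (Fact.out : r.Prime).odd_of_ne_two hr2
  have hg : g ^ r = 1 := by
    rw [hgdef, smul_pow, hTr, smul_smul, hl, pow_succ, mul_assoc, hz2, mul_one, pow_mul, pow_two, hz2, one_pow, one_smul]
  have hgf : ∀ u v, sympBil d F (g u) (g v) = sympBil d F u v := fun u v => by
    rw [hgdef, LinearMap.smul_apply, LinearMap.smul_apply, map_smul, map_smul, LinearMap.smul_apply, smul_eq_mul,
      smul_eq_mul, hT, ← mul_assoc, hz2, one_mul]
  obtain ⟨D, h1, h2, h3, h4, h5, h6⟩ := exists_stable_symp (t := t) (A := a / c) (sympBil_isAlt d F)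
    (sympBil_nondegenerate d F) hr2 hrF hg hgf hi0 hae (Nat.div_mul_le_self a c)
    (by rw [finrank_sympSpace]; rw [hat, mul_comm]) (fun j hj => by
      rw [← hc] at hj
      have hsum := (sup_fix_rest hg hrF).1
      rw [finrank_sympSpace] at hsum
      have hac := Nat.mod_add_div a c
      have hkc := Nat.mod_lt (2 * d) hc0
      have e1 : 2 * d = t * (a / c) * c + (2 * d) % c := by
        rw [hcrit.2]
        conv_lhs => rw [hat, ← hac]
        ring
      have e2 : j * c < (t * (a / c) + 1) * c := by rw [Nat.add_mul, one_mul]; omega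
      have := Nat.lt_of_mul_lt_mul_right e2
      omega)
  refine ⟨D, orthDecomp_iff.2 ⟨⟨ht, by omega, h1, h2, h3⟩, h4, h5⟩, 1, fun j => ?_⟩
  show (D j).map T = D j
  have hz0 : z ≠ 0 := fun h => by rw [h, mul_zero] at hz2; exact zero_ne_one hz2
  conv_rhs => rw [← h6 j, hgdef, Submodule.map_smul _ _ _ hz0]

theorem symp_criterion {a t : ℕ} (hrF : (r : F) ≠ 0) (hr2 : r ≠ 2) (hi0 : 0 < orderOf (Nat.card F : ZMod r))
    (hir : orderOf (Nat.card F : ZMod r) ∣ r - 1) (hat : 2 * d = a * t) (ha : 2 ≤ a) (hd : 0 < d)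
    (hcd : Nat.lcm 2 (orderOf (Nat.card F : ZMod r)) ≤ 2 * d)
    (H : ∀ x : ↥(Matrix.symplecticGroup (Fin d) F),
      (∃ z : F, ((x ^ r : ↥(Matrix.symplecticGroup (Fin d) F)) : Matrix (Fin d ⊕ Fin d) (Fin d ⊕ Fin d) F) =
        z • (1 : Matrix (Fin d ⊕ Fin d) (Fin d ⊕ Fin d) F)) →
      (∀ z : F, (x : Matrix (Fin d ⊕ Fin d) (Fin d ⊕ Fin d) F) ≠ z • (1 : Matrix (Fin d ⊕ Fin d) (Fin d ⊕ Fin d) F)) →
      ∃ D : Fin t → Submodule F (Fin d ⊕ Fin d → F), OrthDecomp d F a D ∧
        ∃ σ : Equiv.Perm (Fin t), ∀ j,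
          (D j).map (Matrix.toLin' (x : Matrix (Fin d ⊕ Fin d) (Fin d ⊕ Fin d) F)) = D (σ j)) :
    Nat.lcm 2 (orderOf (Nat.card F : ZMod r)) ≤ a ∧
      (2 * d) % Nat.lcm 2 (orderOf (Nat.card F : ZMod r)) = t * (a % Nat.lcm 2 (orderOf (Nat.card F : ZMod r))) := by
  classical
  set c := Nat.lcm 2 (orderOf (Nat.card F : ZMod r)) with hc
  have hc0 : 0 < c := Nat.lcm_pos two_pos hi0
  have hr3 := (Fact.out : r.Prime).two_le
  obtain ⟨l, hl⟩ := (Fact.out : r.Prime).odd_of_ne_two hr2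
  have hcr : c ≤ r - 1 := Nat.le_of_dvd (by omega) (Nat.lcm_dvd ⟨l, by omega⟩ hir)
  have hA := sympBil_isAlt d F
  have hW : ∀ k, 0 < k → k * c ≤ 2 * d → ∃ (g : (Fin d ⊕ Fin d → F) →ₗ[F] (Fin d ⊕ Fin d → F))
      (D : Fin t → Submodule F (Fin d ⊕ Fin d → F)) (σ : Equiv.Perm (Fin t)), g ^ r = 1 ∧
        (∀ u v, sympBil d F (g u) (g v) = sympBil d F u v) ∧ OrthDecomp d F a D ∧ (∀ j, (D j).map g = D (σ j)) ∧
        finrank F (fixSp g) + k * c = 2 * d ∧ finrank F (restSp r g) = k * c := by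
    intro k hk hkd
    obtain ⟨T, hT, hTf, hfix⟩ := exists_symp_witness (d := d) hrF hi0 hkd
    rw [← hc] at hfix
    set A := LinearMap.toMatrix' T with hAdef
    have hAT : Matrix.toLin' A = T := Matrix.toLin'_toMatrix' T
    have hmem : A ∈ Matrix.symplecticGroup (Fin d) F :=
      CfsgLib.Classical.Symp.mem_symplecticGroup_iff_form.2 fun u v => by
        rw [← Matrix.toLin'_apply, ← Matrix.toLin'_apply, hAT, ← sympBil_apply, ← sympBil_apply, hTf]
    have hAr : A ^ r = 1 := by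
      show (LinearMap.toMatrixAlgEquiv' T) ^ r = 1
      rw [← map_pow, hT, map_one]
    have hsum := (sup_fix_rest hT hrF).1
    rw [finrank_sympSpace] at hsum
    obtain ⟨D, hD, σ, hσ⟩ := H ⟨A, hmem⟩ ⟨1, by rw [one_smul, SubmonoidClass.coe_pow]; exact hAr⟩ fun z hz => by
      change A = z • 1 at hz
      have hTz : ∀ v, T v = z • v := fun v => by
        rw [← hAT, hz, Matrix.toLin'_apply, Matrix.smul_mulVec, Matrix.one_mulVec]
      obtain ⟨u, hu⟩ : ∃ u : Fin d ⊕ Fin d → F, u ≠ 0 := ⟨Pi.single (Sum.inl ⟨0, hd⟩) 1, by simp⟩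
      obtain ⟨w, -, huw⟩ := CfsgLib.Classical.Symp.exists_partner
        (CfsgLib.Classical.Symp.nondeg_top (sympBil_nondegenerate d F)) (Submodule.mem_top (x := u)) hu
      have hz2 : z * z = 1 := by
        have := hTf u w
        rwa [hTz, hTz, map_smul, map_smul, LinearMap.smul_apply, smul_eq_mul, smul_eq_mul, huw, mul_one] at this
      have hzr : z ^ r = 1 := by
        have h1 := congrFun (congrFun hAr (Sum.inl ⟨0, hd⟩)) (Sum.inl ⟨0, hd⟩)
        rw [hz, smul_pow, one_pow, Matrix.smul_apply, Matrix.one_apply_eq, smul_eq_mul, mul_one] at h1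
        exact h1
      rw [hl, pow_succ, pow_mul, pow_two, hz2, one_pow, one_mul] at hzr
      have htop : fixSp T = ⊤ := Submodule.eq_top_iff'.2 fun v => mem_fixSp.2 (by rw [hTz, hzr, one_smul])
      rw [htop, finrank_top, finrank_sympSpace] at hfix
      have := Nat.mul_pos hk hc0
      omega
    refine ⟨T, D, σ, hT, hTf, hD, fun j => ?_, hfix, by omega⟩
    rw [← hσ j]
    show _ = (D j).map (Matrix.toLin' A)
    rw [hAT]
  have hne : ∀ {D : Fin t → Submodule F (Fin d ⊕ Fin d → F)}, OrthDecomp d F a D → ∀ i, D i ≠ ⊥ := fun h i hi => by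
    have := h.1.finrank_eq i; rw [hi, finrank_bot] at this; omega
  have hfixed : ∀ {g : (Fin d ⊕ Fin d → F) →ₗ[F] (Fin d ⊕ Fin d → F)} {D : Fin t → Submodule F (Fin d ⊕ Fin d → F)}
      {σ : Equiv.Perm (Fin t)}, g ^ r = 1 → (∀ u v, sympBil d F (g u) (g v) = sympBil d F u v) → OrthDecomp d F a D →
      (∀ j, (D j).map g = D (σ j)) → (∀ i, σ i = i) →
      ∃ φ ρ : Fin t → ℕ, (∀ i, φ i + ρ i * c = a) ∧ ∑ i, φ i = finrank F (fixSp g) ∧
        ∑ i, ρ i * c = finrank F (restSp r g) := by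
    intro g D σ hg hgf hD hσ hall
    have hinv : ∀ i, ∀ v ∈ D i, g v ∈ D i := fun i v hv =>
      ((hσ i).trans (by rw [hall i])) ▸ Submodule.mem_map_of_mem hv
    choose ρ hρ using fun i => lcm_dvd_inf_rest hA hrF hg hgf (hinv i) ((orthDecomp_iff.1 hD).2.1 i)
    obtain ⟨h1, h2⟩ := fixed_sums hg hrF hD.1.indep hD.1.iSup_eq_top (fun i => by rw [hσ i, hall i])
    refine ⟨fun i => finrank F ↥(D i ⊓ fixSp g), ρ, fun i => ?_, h1, ?_⟩
    · rw [← hD.1.finrank_eq i, ← finrank_split hg hrF (D i) (hinv i), hρ i, mul_comm (ρ i)]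
    · rw [← h2]
      exact Finset.sum_congr rfl fun i _ => by rw [hρ i, mul_comm (ρ i)]
  have hnc := Nat.mod_add_div (2 * d) c
  have hM : 0 < 2 * d / c := Nat.div_pos hcd hc0
  rcases Nat.lt_or_ge a c with hac | hac
  · exfalso
    obtain ⟨g, D, σ, hg, hgf, hD, hσ, hfix, hrest⟩ := hW 1 Nat.one_pos (by rw [one_mul]; exact hcd)
    by_cases hall : ∀ i, σ i = i
    · obtain ⟨φ, ρ, hφρ, -, hρsum⟩ := hfixed hg hgf hD hσ hall
      rw [hrest, one_mul] at hρsum
      have h0 : ∀ i, ρ i * c = 0 := fun i => by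
        have h5 := hφρ i
        rcases Nat.eq_zero_or_pos (ρ i) with h6 | h6
        · rw [h6, zero_mul]
        · have : c ≤ ρ i * c := Nat.le_mul_of_pos_left c h6
          omega
      rw [Finset.sum_eq_zero fun i _ => h0 i] at hρsum
      omega
    · push Not at hall
      obtain ⟨i, hi⟩ := hall
      have h := (moved_bounds hg hrF hD.1.indep (hne hD) hσ hi).2
      rw [hD.1.finrank_eq, hrest, one_mul] at h
      have : (r - 1) * 2 ≤ (r - 1) * a := Nat.mul_le_mul_left _ ha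
      omega
  · refine ⟨hac, ?_⟩
    obtain ⟨g, D, σ, hg, hgf, hD, hσ, hfix, -⟩ := hW (2 * d / c) hM (Nat.div_mul_le_self (2 * d) c)
    have hfix' : finrank F (fixSp g) = (2 * d) % c := by rw [mul_comm (2 * d / c)] at hfix; omega
    have hkc := Nat.mod_lt (2 * d) hc0
    have hall : ∀ i, σ i = i := fun i => by
      by_contra hi
      have h := (moved_bounds hg hrF hD.1.indep (hne hD) hσ hi).1
      rw [hD.1.finrank_eq, hfix'] at h
      omega
    obtain ⟨φ, ρ, hφρ, hφsum, -⟩ := hfixed hg hgf hD hσ hall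
    have hφ : ∀ i, a % c ≤ φ i := fun i => by
      rw [← hφρ i, Nat.add_mul_mod_self_right]
      exact Nat.mod_le _ _
    have h5 := Finset.sum_le_sum (s := Finset.univ) fun i _ => hφ i
    rw [hφsum, hfix', Finset.sum_const, Finset.card_univ, Fintype.card_fin, smul_eq_mul] at h5
    refine le_antisymm ?_ h5
    rw [hat, mul_comm a t, Nat.mul_mod]
    exact (Nat.mod_le _ _).trans (Nat.mul_le_mul_right _ (Nat.mod_le _ _))

end CfsgLib.Geo.ImprimPrime
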